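import Mathlib

/-! SY: systems of elements of odd prime order any two of which generate `2-group : p`. -/

set_option autoImplicit false

namespace Cfsg.Agent.SY

open Subgroup

variable {G : Type*} [Group G]

/-- A conjugation-closed set `C` ("points") of elements of odd prime order `p`; for points `x, y`
the element `x⁻¹ y` has order dividing 4 and its square centralises `x`; any two points in
`⟨x, y⟩` generate `⟨x, y⟩`. -/
structure Sys (p : ℕ) (C : Set G) : Prop where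
  prime : p.Prime
  ne_two : p ≠ 2
  ord : ∀ x ∈ C, orderOf x = p
  conj : ∀ x ∈ C, ∀ y ∈ C, x * y * x⁻¹ ∈ C
  sq : ∀ x ∈ C, ∀ y ∈ C, Commute ((x⁻¹ * y) ^ 2) x
  four : ∀ x ∈ C, ∀ y ∈ C, (x⁻¹ * y) ^ 4 = 1
  line : ∀ x ∈ C, ∀ y ∈ C, x ≠ y → ∀ u ∈ C, ∀ v ∈ C, u ≠ v → u ∈ closure ({x, y} : Set G) →
    v ∈ closure ({x, y} : Set G) → closure ({x, y} : Set G) ≤ closure ({u, v} : Set G)

/-- all squares `(x⁻¹ y)²` centralise all points -/
def Aff (C : Set G) : Prop := ∀ x ∈ C, ∀ y ∈ C, ∀ z ∈ C, Commute ((x⁻¹ * y) ^ 2) z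

/-- the translation group -/
def Wg (C : Set G) : Subgroup G := closure {g | ∃ x ∈ C, ∃ y ∈ C, g = x⁻¹ * y}

/-- the translations fixing all points -/
def Eg (C : Set G) : Subgroup G := Wg C ⊓ centralizer C

/-- congruence in `Wg C` modulo `Eg C` -/
def Cg (C : Set G) (u v : G) : Prop := u ∈ Wg C ∧ u⁻¹ * v ∈ Eg C

/-- the line through two points -/
def Ln (C : Set G) (x y : G) : Set G := C ∩ (closure ({x, y} : Set G) : Subgroup G)

/-- the points centralised by `e` -/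
def Fx (C : Set G) (e : G) : Set G := C ∩ (centralizer ({e} : Set G) : Subgroup G)

/-- a line is flat if all its squares are trivial -/
def Flat (C : Set G) (x y : G) : Prop := ∀ z ∈ Ln C x y, (x⁻¹ * z) ^ 2 = 1

/-- a block: the points fixed by a nontrivial square -/
def Blk (C B : Set G) : Prop :=
  ∃ x ∈ C, ∃ y ∈ C, (x⁻¹ * y) ^ 2 ≠ 1 ∧ B = Fx C ((x⁻¹ * y) ^ 2)

/-- `w` and the elements `σ^j(w) σ^(-j)(w)`, `σ` = conjugation by `x` -/
def Uu (x w : G) : Set G :=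
  {v | v = w ∨ ∃ j : ℕ, v = (x ^ j * w * (x ^ j)⁻¹) * ((x ^ j)⁻¹ * w * x ^ j)}

/-- a minimal counterexample to "every system is affine" -/
structure Min (p : ℕ) (C : Set G) : Prop where
  sys : Sys p C
  gen : closure C = ⊤
  zc : center G = ⊥
  sub : ∀ K : Subgroup G, K ≠ ⊤ → Aff (C ∩ K)
  otwo : ∀ N : Subgroup G, N.Normal → IsPGroup 2 N → N = ⊥
  naff : ¬ Aff C

theorem mem_Ln {C : Set G} {x y z : G} : z ∈ Ln C x y ↔ z ∈ C ∧ z ∈ closure ({x, y} : Set G) :=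
  Iff.rfl

theorem mem_Fx {C : Set G} {e z : G} : z ∈ Fx C e ↔ z ∈ C ∧ Commute e z :=
  and_congr_right fun _ => mem_centralizer_singleton_iff.trans eq_comm

theorem mem_Eg {C : Set G} {e : G} : e ∈ Eg C ↔ e ∈ Wg C ∧ ∀ z ∈ C, Commute e z :=
  and_congr_right fun _ => ⟨fun h z hz => (h z hz).symm, fun h z hz => (h z hz).symm⟩

theorem left_mem_Ln {C : Set G} {x y : G} (hx : x ∈ C) : x ∈ Ln C x y :=
  ⟨hx, subset_closure (Or.inl rfl)⟩

theorem right_mem_Ln {C : Set G} {x y : G} (hy : y ∈ C) : y ∈ Ln C x y :=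
  ⟨hy, subset_closure (Or.inr rfl)⟩

theorem mem_Wg {C : Set G} {x y : G} (hx : x ∈ C) (hy : y ∈ C) : x⁻¹ * y ∈ Wg C :=
  subset_closure ⟨x, hx, y, hy, rfl⟩

theorem Wg_mono {C D : Set G} (h : C ⊆ D) : Wg C ≤ Wg D :=
  closure_mono fun _ ⟨x, hx, y, hy, e⟩ => ⟨x, h hx, y, h hy, e⟩

theorem Wg_le {C : Set G} : Wg C ≤ closure C :=
  (closure_le _).2 fun _ ⟨_, hx, _, hy, e⟩ =>
    e ▸ mul_mem (inv_mem (subset_closure hx)) (subset_closure hy)

theorem Eg_le {C : Set G} : Eg C ≤ Wg C := inf_le_left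

end Cfsg.Agent.SY
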