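import Mathlib
import Cfsg.Agent.SY.Defs

/-! SY: elementary facts on systems. -/

set_option autoImplicit false
set_option linter.unusedSectionVars false

namespace Cfsg.Agent.SY

open Subgroup
open scoped commutatorElement

variable {G : Type*} [Group G] {p : ℕ} {C : Set G} {x y z u v w e g : G}

theorem Wg_eq (hx : x ∈ C) : Wg C = closure {g | ∃ y ∈ C, g = x⁻¹ * y} := by
  refine le_antisymm ((closure_le _).2 ?_) (closure_mono ?_)
  · rintro _ ⟨a, ha, b, hb, rfl⟩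
    have : a⁻¹ * b = (x⁻¹ * a)⁻¹ * (x⁻¹ * b) := by group
    rw [this]
    exact mul_mem (inv_mem (subset_closure ⟨a, ha, rfl⟩)) (subset_closure ⟨b, hb, rfl⟩)
  · rintro _ ⟨b, hb, rfl⟩
    exact ⟨x, hx, b, hb, rfl⟩

theorem conj_C (hg : g ∈ normalizer C) (hx : x ∈ C) : g * x * g⁻¹ ∈ C := (hg x).1 hx

theorem conj_Wg (hg : g ∈ normalizer C) (hw : w ∈ Wg C) : g * w * g⁻¹ ∈ Wg C := by
  induction hw using closure_induction with
  | mem _ h =>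
    obtain ⟨a, ha, b, hb, rfl⟩ := h
    have : g * (a⁻¹ * b) * g⁻¹ = (g * a * g⁻¹)⁻¹ * (g * b * g⁻¹) := by group
    rw [this]
    exact mem_Wg (conj_C hg ha) (conj_C hg hb)
  | one => simp
  | mul a b _ _ ha hb =>
    have : g * (a * b) * g⁻¹ = (g * a * g⁻¹) * (g * b * g⁻¹) := by group
    rw [this]; exact mul_mem ha hb
  | inv a _ ha =>
    have : g * a⁻¹ * g⁻¹ = (g * a * g⁻¹)⁻¹ := by group
    rw [this]; exact inv_mem ha

theorem conj_Eg (hg : g ∈ normalizer C) (he : e ∈ Eg C) : g * e * g⁻¹ ∈ Eg C := by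
  refine mem_Eg.2 ⟨conj_Wg hg he.1, fun z hz => ?_⟩
  have h1 := ((mem_Eg.1 he).2 _ (conj_C (inv_mem hg) hz)).eq
  change g * e * g⁻¹ * z = z * (g * e * g⁻¹)
  calc g * e * g⁻¹ * z = g * (e * (g⁻¹ * z * g⁻¹⁻¹)) * g⁻¹ := by group
    _ = _ := by rw [h1]; group

theorem commute_closure {S : Set G} (h : ∀ s ∈ S, Commute e s) (hg : g ∈ closure S) :
    Commute e g := by
  have : closure S ≤ centralizer {e} := (closure_le _).2 fun s hs =>
    mem_centralizer_singleton_iff.2 (h s hs).eq.symm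
  exact (mem_centralizer_singleton_iff.1 (this hg)).symm

theorem Eg_comm (he : e ∈ Eg C) (hg : g ∈ closure C) : Commute e g :=
  commute_closure (mem_Eg.1 he).2 hg

theorem mem_norm_of_conj [Finite G] (h : ∀ x ∈ C, g * x * g⁻¹ ∈ C) : g ∈ normalizer C :=
  mem_normalizer_fintype h

theorem Uu_mem_of {K : Subgroup G} (hv : v ∈ Uu x w) (hx : x ∈ normalizer (K : Set G))
    (hw : w ∈ K) : v ∈ K := by
  rcases hv with rfl | ⟨j, rfl⟩
  · exact hw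
  · refine mul_mem (((pow_mem hx j) w).1 hw) ?_
    simpa using ((inv_mem (pow_mem hx j)) w).1 hw

theorem Uu_mem_closure (hv : v ∈ Uu x w) : v ∈ closure ({x, w} : Set G) :=
  Uu_mem_of hv (le_normalizer (subset_closure (Or.inl rfl))) (subset_closure (Or.inr rfl))

theorem closure_elem {S : Set G} (hc : ∀ a ∈ S, ∀ b ∈ S, Commute a b) (hs : ∀ a ∈ S, a * a = 1) :
    (∀ u ∈ closure S, ∀ v ∈ closure S, Commute u v) ∧ ∀ u ∈ closure S, u * u = 1 := by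
  have h1 : ∀ u ∈ closure S, ∀ v ∈ closure S, Commute u v := fun u hu v hv =>
    commute_closure (fun s hs => (commute_closure (hc s hs) hu).symm) hv
  refine ⟨h1, fun u hu => ?_⟩
  induction hu using closure_induction with
  | mem a h => exact hs a h
  | one => simp
  | mul a b ha hb h2 h3 =>
    calc a * b * (a * b) = a * (b * a) * b := by group
      _ = a * a * (b * b) := by rw [← (h1 a ha b hb).eq]; group
      _ = 1 := by rw [h2, h3, one_mul]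
  | inv a _ h => rw [← mul_inv_rev, h, inv_one]

theorem conj_pow_mem {K : Subgroup G} (hn : ∀ k ∈ K, x * k * x⁻¹ ∈ K) (i : ℕ) {k : G}
    (hk : k ∈ K) : x ^ i * k * (x ^ i)⁻¹ ∈ K := by
  induction i with
  | zero => simpa using hk
  | succ i ih =>
    have : x ^ (i + 1) * k * (x ^ (i + 1))⁻¹ = x * (x ^ i * k * (x ^ i)⁻¹) * x⁻¹ := by
      rw [pow_succ']; group
    rw [this]; exact hn _ ih

theorem mul_pow_pow {K : Subgroup G} (hn : ∀ k ∈ K, x * k * x⁻¹ ∈ K) {k : G} (hk : k ∈ K)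
    (j n : ℕ) : ∃ k' ∈ K, (k * x ^ j) ^ n = k' * x ^ (j * n) := by
  induction n with
  | zero => exact ⟨1, one_mem _, by simp⟩
  | succ n ih =>
    obtain ⟨k', h1, h2⟩ := ih
    refine ⟨k' * (x ^ (j * n) * k * (x ^ (j * n))⁻¹), mul_mem h1 (conj_pow_mem hn _ hk), ?_⟩
    rw [pow_succ, h2, mul_add, mul_one, pow_add]; group

theorem exists_mul_pow_of {K : Subgroup G} (hn : ∀ k ∈ K, x * k * x⁻¹ ∈ K) {n : ℕ}
    (hp : x ^ (n + 1) = 1) {S : Set G} (hS : ∀ s ∈ S, ∃ k ∈ K, ∃ i : ℕ, s = k * x ^ i)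
    (hg : g ∈ closure S) : ∃ k ∈ K, ∃ i : ℕ, g = k * x ^ i := by
  induction hg using closure_induction with
  | mem a h => exact hS a h
  | one => exact ⟨1, one_mem _, 0, by simp⟩
  | mul a b _ _ ha hb =>
    obtain ⟨k, hk, i, rfl⟩ := ha
    obtain ⟨l, hl, j, rfl⟩ := hb
    exact ⟨k * (x ^ i * l * (x ^ i)⁻¹), mul_mem hk (conj_pow_mem hn i hl), i + j, by
      rw [pow_add]; group⟩
  | inv a _ ha =>
    obtain ⟨k, hk, i, rfl⟩ := ha
    have e : (x ^ i)⁻¹ = x ^ (n * i) := by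
      rw [inv_eq_iff_mul_eq_one, ← pow_add, show i + n * i = (n + 1) * i by ring, pow_mul, hp,
        one_pow]
    refine ⟨x ^ (n * i) * k⁻¹ * (x ^ (n * i))⁻¹, conj_pow_mem hn _ (inv_mem hk), n * i, ?_⟩
    rw [mul_inv_rev, e]; group

namespace Sys

variable [Finite G] (h : Sys p C)
include h

theorem sub (K : Subgroup G) : Sys p (C ∩ K) where
  prime := h.prime
  ne_two := h.ne_two
  ord x hx := h.ord x hx.1
  conj x hx y hy := ⟨h.conj x hx.1 y hy.1, mul_mem (mul_mem hx.2 hy.2) (inv_mem hx.2)⟩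
  sq x hx y hy := h.sq x hx.1 y hy.1
  four x hx y hy := h.four x hx.1 y hy.1
  line x hx y hy hxy u hu v hv := h.line x hx.1 y hy.1 hxy u hu.1 v hv.1

theorem ln (x y : G) : Sys p (Ln C x y) := h.sub _

theorem fx (e : G) : Sys p (Fx C e) := h.sub _

theorem le_norm : closure C ≤ normalizer C :=
  (closure_le _).2 fun x hx => mem_norm_of_conj (h.conj x hx)

theorem conj_mem (hg : g ∈ closure C) (hy : y ∈ C) : g * y * g⁻¹ ∈ C := conj_C (h.le_norm hg) hy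

theorem pow_p (hx : x ∈ C) : x ^ p = 1 := by rw [← h.ord x hx, pow_orderOf_eq_one]

theorem ne_one (hx : x ∈ C) : x ≠ 1 := fun e =>
  h.prime.one_lt.ne (by rw [← h.ord x hx, e, orderOf_one])

theorem cop : Nat.Coprime p 4 :=
  ((Nat.coprime_primes h.prime Nat.prime_two).2 h.ne_two).pow_right 2

theorem eq_one_of_pow (h1 : g ^ p = 1) (h2 : g ^ 4 = 1) : g = 1 := by
  rw [← pow_one g, ← h.cop, pow_gcd_eq_one]
  exact ⟨h1, h2⟩

theorem eq_of_commute (hx : x ∈ C) (hy : y ∈ C) (hc : Commute x y) : x = y := by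
  refine inv_mul_eq_one.1 (h.eq_one_of_pow ?_ (h.four x hx y hy))
  rw [hc.inv_left.mul_pow, inv_pow, h.pow_p hx, h.pow_p hy, inv_one, one_mul]

theorem eq_one_of_mul (hy : y ∈ C) (hye : y * e ∈ C) (hc : Commute e y) (he : e ^ 4 = 1) :
    e = 1 := by
  refine h.eq_one_of_pow ?_ he
  have := h.pow_p hye
  rwa [hc.symm.mul_pow, h.pow_p hy, one_mul] at this

theorem exists_half (hx : x ∈ C) (i : ℕ) : ∃ j, x ^ i = x ^ (2 * j) := by
  obtain ⟨k, hk⟩ := h.prime.odd_of_ne_two h.ne_two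
  refine ⟨(k + 1) * i, ?_⟩
  rw [show 2 * ((k + 1) * i) = p * i + i by rw [hk]; ring, pow_add, pow_mul, h.pow_p hx, one_pow,
    one_mul]

/-- an element commuting with `x²` commutes with `x` -/
theorem commute_of_sq (hx : x ∈ C) (hc : Commute g (x ^ 2)) : Commute g x := by
  obtain ⟨j, hj⟩ := h.exists_half hx 1
  rw [← pow_one x, hj, pow_mul]
  exact hc.pow_right j

theorem sq' (hx : x ∈ C) (hy : y ∈ C) : Commute ((x⁻¹ * y) ^ 2) y := by
  have := (h.sq x hx y hy).mul_right ((Commute.refl (x⁻¹ * y)).pow_left 2)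
  rwa [mul_inv_cancel_left] at this

theorem closure_eq (hx : x ∈ C) (hy : y ∈ C) (hu : u ∈ Ln C x y) (hv : v ∈ Ln C x y)
    (huv : u ≠ v) : closure ({u, v} : Set G) = closure {x, y} := by
  refine le_antisymm ((closure_le _).2 ?_) (h.line x hx y hy ?_ u hu.1 v hv.1 huv hu.2 hv.2)
  · rintro _ (rfl | rfl)
    exacts [hu.2, hv.2]
  · rintro rfl
    refine huv (h.eq_of_commute hu.1 hv.1 (commute_closure ?_ hv.2))
    rintro _ (rfl | rfl) <;>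
    · refine (commute_closure ?_ hu.2).symm
      rintro _ (rfl | rfl) <;> exact Commute.refl _

theorem ln_eq (hx : x ∈ C) (hy : y ∈ C) (hu : u ∈ Ln C x y) (hv : v ∈ Ln C x y)
    (huv : u ≠ v) : Ln C u v = Ln C x y := by
  rw [Ln, h.closure_eq hx hy hu hv huv, Ln]

theorem closure_ln (hx : x ∈ C) (hy : y ∈ C) : closure (Ln C x y) = closure {x, y} := by
  refine le_antisymm ((closure_le _).2 fun z hz => hz.2) (closure_mono ?_)
  rintro _ (rfl | rfl)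
  exacts [left_mem_Ln hx, right_mem_Ln hy]

theorem aff_ln (hx : x ∈ C) (hy : y ∈ C) : Aff (Ln C x y) := by
  intro u hu v hv z hz
  by_cases huv : u = v
  · simp [huv]
  refine commute_closure (S := {u, v}) ?_ (h.closure_eq hx hy hu hv huv ▸ hz.2)
  rintro _ (rfl | rfl)
  exacts [h.sq _ hu.1 _ hv.1, h.sq' hu.1 hv.1]

theorem pow_succ_pred (hx : x ∈ C) : x ^ (p - 1 + 1) = 1 := by
  rw [Nat.sub_add_cancel h.prime.one_le, h.pow_p hx]

theorem exists_mul_pow (hx : x ∈ C) (hg : g ∈ closure C) :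
    ∃ w ∈ Wg C, ∃ i : ℕ, g = w * x ^ i := by
  have hn := h.le_norm (subset_closure hx)
  refine exists_mul_pow_of (fun k hk => conj_Wg hn hk) (h.pow_succ_pred hx) (fun y hy => ?_) hg
  exact ⟨x * (x⁻¹ * y) * x⁻¹, conj_Wg hn (mem_Wg hx hy), 1, by group⟩

theorem inv_eq (hx : x ∈ C) : x⁻¹ = x ^ (p - 1) := by
  rw [inv_eq_iff_mul_eq_one, ← pow_succ', h.pow_succ_pred hx]

theorem Wg_ln_le (hx : x ∈ C) (hy : y ∈ C) {K : Subgroup G} (hK : x⁻¹ * y ∈ K)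
    (hn : ∀ k ∈ K, x * k * x⁻¹ ∈ K) : Wg (Ln C x y) ≤ K := by
  rw [Wg_eq (left_mem_Ln hx), closure_le]
  rintro _ ⟨z, hz, rfl⟩
  obtain ⟨k, hk, i, e⟩ := exists_mul_pow_of hn (h.pow_succ_pred hx) (S := {x, y}) (by
    rintro _ (rfl | rfl)
    · exact ⟨1, one_mem _, 1, by simp⟩
    · exact ⟨_, hn _ hK, 1, by group⟩) hz.2
  have h1 := conj_pow_mem hn (p - 1) hk
  have e1 : x⁻¹ * z = x ^ (p - 1) * k * (x ^ (p - 1))⁻¹ * x ^ (p - 1 + i) := by
    rw [e, pow_add, ← h.inv_eq hx]; group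
  obtain ⟨k', h2, e2⟩ := mul_pow_pow hn h1 (p - 1 + i) 4
  rw [← e1, h.four x hx z hz.1] at e2
  have h3 : (x ^ (p - 1 + i)) ^ 4 ∈ K := by
    rw [← pow_mul, eq_inv_of_mul_eq_one_right e2.symm]; exact inv_mem h2
  have h4 : x ^ (p - 1 + i) ∈ zpowers ((x ^ (p - 1 + i)) ^ 4) := by
    refine mem_zpowers_pow_iff.2 (Nat.Coprime.coprime_dvd_right ?_ h.cop.symm)
    exact orderOf_dvd_of_pow_eq_one (by rw [← pow_mul, mul_comm, pow_mul, h.pow_p hx, one_pow])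
  rw [SetLike.mem_coe, e1]
  exact mul_mem h1 (zpowers_le.2 h3 h4)

theorem flat_gen (hx : x ∈ C) (hy : y ∈ C) {t : G} (h2 : t ^ 2 = 1)
    (hc : ∀ i : ℕ, Commute t (x ^ i * t * (x ^ i)⁻¹))
    (hm : x⁻¹ * y ∈ closure {s | ∃ i : ℕ, s = x ^ i * t * (x ^ i)⁻¹}) : Flat C x y := by
  intro z hz
  have hle := h.Wg_ln_le hx hy hm (fun k hk => by
    induction hk using closure_induction with
    | mem _ h =>
      obtain ⟨i, rfl⟩ := h
      exact subset_closure ⟨i + 1, by rw [pow_succ']; group⟩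
    | one => simp
    | mul a b _ _ ha hb =>
      have : x * (a * b) * x⁻¹ = (x * a * x⁻¹) * (x * b * x⁻¹) := by group
      rw [this]; exact mul_mem ha hb
    | inv a _ ha =>
      have : x * a⁻¹ * x⁻¹ = (x * a * x⁻¹)⁻¹ := by group
      rw [this]; exact inv_mem ha)
  rw [pow_two]
  refine (closure_elem ?_ ?_).2 _ (hle (mem_Wg (left_mem_Ln hx) hz))
  · rintro _ ⟨i, rfl⟩ _ ⟨j, rfl⟩
    have e : x ^ j = x ^ i * x ^ ((p - 1) * i + j) := by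
      rw [← pow_add, ← add_assoc, show i + (p - 1) * i = (p - 1 + 1) * i by ring, pow_add,
        pow_mul, h.pow_succ_pred hx, one_pow, one_mul]
    have := (hc ((p - 1) * i + j)).map (MulAut.conj (x ^ i))
    simp only [MulAut.conj_apply] at this
    rw [e]
    convert this using 1
    group
  · rintro _ ⟨i, rfl⟩
    calc _ = x ^ i * t ^ 2 * (x ^ i)⁻¹ := by rw [pow_two]; group
      _ = 1 := by rw [h2]; group

theorem flat_of (hx : x ∈ C) (hy : y ∈ C) (h2 : (x⁻¹ * y) ^ 2 = 1)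
    (hc : ∀ i : ℕ, Commute (x⁻¹ * y) (x ^ i * (x⁻¹ * y) * (x ^ i)⁻¹)) : Flat C x y :=
  h.flat_gen hx hy h2 hc (subset_closure ⟨0, by simp⟩)

theorem W_norm (hw : w ∈ Wg C) : w ∈ normalizer C := h.le_norm (Wg_le hw)

theorem C_norm (hx : x ∈ C) : x ∈ normalizer C := h.le_norm (subset_closure hx)

section aff
variable (ha : Aff C)
include ha

theorem gen_sq (hx : x ∈ C) (hy : y ∈ C) : (x⁻¹ * y) ^ 2 ∈ Eg C :=
  mem_Eg.2 ⟨pow_mem (mem_Wg hx hy) 2, ha x hx y hy⟩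

theorem comm_mem (hu : u ∈ Wg C) (hv : v ∈ Wg C) : ⁅u, v⁆ ∈ Eg C := by
  rcases C.eq_empty_or_nonempty with rfl | ⟨x, hx⟩
  · exact mem_Eg.2 ⟨mul_mem (mul_mem (mul_mem hu hv) (inv_mem hu)) (inv_mem hv), fun _ h => h.elim⟩
  have e := Wg_eq hx
  rw [e] at hu hv
  induction hu, hv using closure_induction₂ with
  | mem a b h1 h2 =>
    obtain ⟨y, hy, rfl⟩ := h1
    obtain ⟨z, hz, rfl⟩ := h2
    have : ⁅x⁻¹ * y, x⁻¹ * z⁆ = (x⁻¹ * y) ^ 2 * (y⁻¹ * z) ^ 2 * ((x⁻¹ * z) ^ 2)⁻¹ := by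
      simp only [commutatorElement_def, pow_two]; group
    rw [this]
    exact mul_mem (mul_mem (h.gen_sq ha hx hy) (h.gen_sq ha hy hz)) (inv_mem (h.gen_sq ha hx hz))
  | one_left => simp
  | one_right => simp
  | mul_left a b c h1 _ _ h4 h5 =>
    have : ⁅a * b, c⁆ = a * ⁅b, c⁆ * a⁻¹ * ⁅a, c⁆ := by simp only [commutatorElement_def]; group
    rw [this]; exact mul_mem (conj_Eg (h.W_norm (e ▸ h1)) h5) h4
  | mul_right a b c h1 _ _ h4 h5 =>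
    have : ⁅c, a * b⁆ = ⁅c, a⁆ * (a * ⁅c, b⁆ * a⁻¹) := by simp only [commutatorElement_def]; group
    rw [this]; exact mul_mem h4 (conj_Eg (h.W_norm (e ▸ h1)) h5)
  | inv_left a b h1 _ h3 =>
    have : ⁅a⁻¹, b⁆ = a⁻¹ * ⁅a, b⁆⁻¹ * a⁻¹⁻¹ := by simp only [commutatorElement_def]; group
    rw [this]; exact conj_Eg (h.W_norm (e ▸ inv_mem h1)) (inv_mem h3)
  | inv_right a b _ h2 h3 =>
    have : ⁅a, b⁻¹⁆ = b⁻¹ * ⁅a, b⁆⁻¹ * b⁻¹⁻¹ := by simp only [commutatorElement_def]; group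
    rw [this]; exact conj_Eg (h.W_norm (e ▸ inv_mem h2)) (inv_mem h3)

theorem sq_mem (hw : w ∈ Wg C) : w ^ 2 ∈ Eg C := by
  induction hw using closure_induction with
  | mem _ h1 =>
    obtain ⟨a, h2, b, h3, rfl⟩ := h1
    exact h.gen_sq ha h2 h3
  | one => simp
  | mul a b h1 h2 h3 h4 =>
    have : (a * b) ^ 2 = a ^ 2 * ⁅a⁻¹, b⁆ * b ^ 2 := by
      simp only [commutatorElement_def, pow_two]; group
    rw [this]; exact mul_mem (mul_mem h3 (h.comm_mem ha (inv_mem h1) h2)) h4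
  | inv a _ h2 => rw [inv_pow]; exact inv_mem h2

omit h ha in
theorem E_conj (he : e ∈ Eg C) (hg : g ∈ closure C) : g * e * g⁻¹ = e := by
  rw [← (Eg_comm he hg).eq, mul_inv_cancel_right]

theorem comm_mul_left (hu : u ∈ Wg C) (hv : v ∈ Wg C) (hw : w ∈ Wg C) :
    ⁅u * v, w⁆ = ⁅u, w⁆ * ⁅v, w⁆ := by
  have : ⁅u * v, w⁆ = u * ⁅v, w⁆ * u⁻¹ * ⁅u, w⁆ := by simp only [commutatorElement_def]; group
  rw [this, E_conj (h.comm_mem ha hv hw) (Wg_le hu)]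
  exact (Eg_comm (h.comm_mem ha hv hw) (Wg_le (h.comm_mem ha hu hw).1)).eq

theorem comm_mul_right (hu : u ∈ Wg C) (hv : v ∈ Wg C) (hw : w ∈ Wg C) :
    ⁅w, u * v⁆ = ⁅w, u⁆ * ⁅w, v⁆ := by
  have : ⁅w, u * v⁆ = ⁅w, u⁆ * (u * ⁅w, v⁆ * u⁻¹) := by simp only [commutatorElement_def]; group
  rw [this, E_conj (h.comm_mem ha hw hv) (Wg_le hu)]

theorem comm_sq (hu : u ∈ Wg C) (hv : v ∈ Wg C) : ⁅u, v⁆ * ⁅u, v⁆ = 1 := by
  rw [← h.comm_mul_left ha hu hu hv, commutatorElement_eq_one_iff_commute, ← pow_two]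
  exact Eg_comm (h.sq_mem ha hu) (Wg_le hv)

theorem comm_symm (hu : u ∈ Wg C) (hv : v ∈ Wg C) : ⁅u, v⁆ = ⁅v, u⁆ := by
  rw [← commutatorElement_inv u v]
  exact eq_inv_of_mul_eq_one_left (h.comm_sq ha hu hv)

theorem comm_conj (hg : g ∈ closure C) (hu : u ∈ Wg C) (hv : v ∈ Wg C) :
    ⁅g * u * g⁻¹, g * v * g⁻¹⁆ = ⁅u, v⁆ := by
  rw [← E_conj (h.comm_mem ha hu hv) hg]
  simp only [commutatorElement_def]; group

theorem comm_inv_left (hu : u ∈ Wg C) (hv : v ∈ Wg C) : ⁅u⁻¹, v⁆ = ⁅u, v⁆ := by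
  have h1 := h.comm_mul_left ha (inv_mem hu) hu hv
  rw [inv_mul_cancel, commutatorElement_one_left] at h1
  rw [eq_inv_of_mul_eq_one_left h1.symm]
  exact (eq_inv_of_mul_eq_one_left (h.comm_sq ha hu hv)).symm

theorem mul_sq (hu : u ∈ Wg C) (hv : v ∈ Wg C) : (u * v) ^ 2 = u ^ 2 * v ^ 2 * ⁅u, v⁆ := by
  have : (u * v) ^ 2 = u ^ 2 * (⁅u⁻¹, v⁆ * v ^ 2) := by
    simp only [commutatorElement_def, pow_two]; group
  rw [this, h.comm_inv_left ha hu hv, (Eg_comm (h.comm_mem ha hu hv) (Wg_le (pow_mem hv 2))).eq,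
    mul_assoc]

theorem pow_four (hw : w ∈ Wg C) : w ^ 4 = 1 := by
  induction hw using closure_induction with
  | mem _ h1 =>
    obtain ⟨a, h2, b, h3, rfl⟩ := h1
    exact h.four a h2 b h3
  | one => simp
  | mul a b h1 h2 h3 h4 =>
    have c1 := Eg_comm (h.sq_mem ha h1) (Wg_le (pow_mem h2 2))
    have c2 := (Eg_comm (h.comm_mem ha h1 h2) (Wg_le (mul_mem (pow_mem h1 2) (pow_mem h2 2)))).symm
    rw [show 4 = 2 * 2 from rfl, pow_mul, h.mul_sq ha h1 h2, c2.mul_pow, c1.mul_pow, ← pow_mul,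
      ← pow_mul, h3, h4, pow_two, h.comm_sq ha h1 h2]
    simp
  | inv a _ h2 => rw [inv_pow, h2, inv_one]

theorem isPGroup : IsPGroup 2 (Wg C) := fun w => ⟨2, Subtype.ext (h.pow_four ha w.2)⟩

theorem eq_one_of_E (hy : y ∈ C) (he : e ∈ Eg C) (hye : y * e ∈ C) : e = 1 :=
  h.eq_one_of_mul hy hye ((mem_Eg.1 he).2 y hy) (h.pow_four ha he.1)

theorem mem_E (hx : x ∈ C) (hw : w ∈ Wg C) (hc : Commute w x) : w ∈ Eg C := by
  refine mem_Eg.2 ⟨hw, fun y hy => ?_⟩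
  have e1 : w * y * w⁻¹ = y * ⁅(x⁻¹ * y)⁻¹, w⁆ := by
    simp only [commutatorElement_def]
    calc _ = (w * x) * (x⁻¹ * y) * w⁻¹ := by group
      _ = _ := by rw [hc.eq]; group
  have := h.eq_one_of_E ha hy (h.comm_mem ha (inv_mem (mem_Wg hx hy)) hw)
    (e1 ▸ conj_C (h.W_norm hw) hy)
  rw [this, mul_one, mul_inv_eq_iff_eq_mul] at e1
  exact e1

theorem exists_conj_pure (hx : x ∈ C) (hy : y ∈ C) :
    ∃ z ∈ C, (x⁻¹ * z) * x * (x⁻¹ * z)⁻¹ = y := by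
  let f : C → C := fun z => ⟨(x⁻¹ * z) * x * (x⁻¹ * z)⁻¹, conj_C (h.W_norm (mem_Wg hx z.2)) hx⟩
  have hf : Function.Injective f := fun a b hab => by
    have e1 : (x⁻¹ * a) * x * (x⁻¹ * a)⁻¹ = (x⁻¹ * b) * x * (x⁻¹ * b)⁻¹ := congrArg Subtype.val hab
    have e2 : Commute ((a : G)⁻¹ * b) x := by
      change (a : G)⁻¹ * b * x = x * ((a : G)⁻¹ * b)
      calc _ = (x⁻¹ * a)⁻¹ * ((x⁻¹ * b) * x * (x⁻¹ * b)⁻¹) * (x⁻¹ * b) := by group
        _ = _ := by rw [← e1]; group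
    have := h.eq_one_of_E ha a.2 (h.mem_E ha hx (mem_Wg a.2 b.2) e2) (by simpa using b.2)
    exact Subtype.ext (inv_mul_eq_one.1 this)
  obtain ⟨z, hz⟩ := Finite.injective_iff_surjective.1 hf ⟨y, hy⟩
  exact ⟨z, z.2, congrArg Subtype.val hz⟩

theorem exists_conj (hx : x ∈ C) (hy : y ∈ C) : ∃ w ∈ Wg C, w * x * w⁻¹ = y :=
  let ⟨_, hz, e⟩ := h.exists_conj_pure ha hx hy
  ⟨_, mem_Wg hx hz, e⟩

theorem pure_aux (hx : x ∈ C) {K : Subgroup G} (hK : K ≤ Eg C)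
    (hc : ∀ u ∈ Wg C, ∀ v ∈ Wg C, ⁅u, v⁆ ∈ K) (hs : ∀ y ∈ C, (x⁻¹ * y) ^ 2 ∈ K)
    (hw : w ∈ Wg C) : ∃ y ∈ C, ∃ e ∈ K, w = x⁻¹ * y * e := by
  rw [Wg_eq hx] at hw
  induction hw using closure_induction with
  | mem _ h1 =>
    obtain ⟨y, hy, rfl⟩ := h1
    exact ⟨y, hy, 1, one_mem _, by simp⟩
  | one => exact ⟨x, hx, 1, one_mem _, by simp⟩
  | mul a b _ _ h3 h4 =>
    obtain ⟨y, hy, e, he, rfl⟩ := h3
    obtain ⟨z, hz, e', he', rfl⟩ := h4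
    obtain ⟨w, hw, rfl⟩ := h.exists_conj ha hx hy
    refine ⟨w * z * w⁻¹, conj_C (h.W_norm hw) hz, ⁅(x⁻¹ * z)⁻¹, w⁆⁻¹ * e * e',
      mul_mem (mul_mem (inv_mem (hc _ (inv_mem (mem_Wg hx hz)) _ hw)) he) he', ?_⟩
    have c1 := (Eg_comm (hK he) (Wg_le (mem_Wg hx hz))).eq
    have c2 := (Eg_comm (inv_mem (h.comm_mem ha (inv_mem (mem_Wg hx hz)) hw))
      (Wg_le (mem_Wg hx hz))).eq
    calc _ = x⁻¹ * (w * x * w⁻¹) * (e * (x⁻¹ * z)) * e' := by group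
      _ = x⁻¹ * (w * x * w⁻¹) * (x⁻¹ * z) * e * e' := by rw [c1]; group
      _ = _ := by simp only [commutatorElement_def]; group
  | inv a _ h2 =>
    obtain ⟨y, hy, e, he, rfl⟩ := h2
    refine ⟨y, hy, ((x⁻¹ * y) ^ 2)⁻¹ * e⁻¹, mul_mem (inv_mem (hs y hy)) (inv_mem he), ?_⟩
    rw [← (Eg_comm (hK he) (Wg_le (mem_Wg hx hy))).eq, pow_two]; group

theorem exists_pure (hx : x ∈ C) (hw : w ∈ Wg C) :
    ∃ y ∈ C, ∃ e ∈ Eg C, w = x⁻¹ * y * e :=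
  h.pure_aux ha hx le_rfl (fun _ hu _ hv => h.comm_mem ha hu hv) (fun _ hy => h.gen_sq ha hx hy) hw

theorem E_sq (he : e ∈ Eg C) : e * e = 1 := by
  rcases C.eq_empty_or_nonempty with rfl | ⟨x, hx⟩
  · have : e ∈ (⊥ : Subgroup G) := (closure_le _).2 (by rintro _ ⟨_, h, _⟩; exact h.elim) he.1
    rw [mem_bot.1 this, one_mul]
  let K : Subgroup G :=
    { carrier := {k | k ∈ Eg C ∧ k * k = 1}
      one_mem' := ⟨one_mem _, one_mul _⟩
      mul_mem' := fun {a b} h1 h2 => ⟨mul_mem h1.1 h2.1, by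
        calc a * b * (a * b) = a * (b * a) * b := by group
          _ = a * a * (b * b) := by rw [← (Eg_comm h1.1 (Wg_le h2.1.1)).eq]; group
          _ = 1 := by rw [h1.2, h2.2, one_mul]⟩
      inv_mem' := fun {a} h1 => ⟨inv_mem h1.1, by rw [← mul_inv_rev, h1.2, inv_one]⟩ }
  obtain ⟨y, hy, k, hk, e1⟩ := h.pure_aux ha hx (K := K) (fun _ h => h.1)
    (fun _ hu _ hv => ⟨h.comm_mem ha hu hv, h.comm_sq ha hu hv⟩)
    (fun y hy => ⟨h.gen_sq ha hx hy, by rw [← pow_add]; exact h.four x hx y hy⟩) he.1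
  have : e * k⁻¹ = 1 := h.eq_one_of_E ha hx (mul_mem he (inv_mem hk.1)) (by rw [e1]; simpa using hy)
  rw [mul_inv_eq_one.1 this]; exact hk.2

theorem cg_refl (hu : u ∈ Wg C) : Cg C u u := ⟨hu, by simp⟩

theorem cg_right (huv : Cg C u v) : v ∈ Wg C := by
  simpa using mul_mem huv.1 huv.2.1

theorem cg_symm (huv : Cg C u v) : Cg C v u :=
  ⟨h.cg_right ha huv, by simpa using inv_mem huv.2⟩

theorem cg_trans (huv : Cg C u v) (hvw : Cg C v w) : Cg C u w :=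
  ⟨huv.1, by simpa [mul_assoc] using mul_mem huv.2 hvw.2⟩

theorem cg_mul {u' v' : G} (huv : Cg C u v) (huv' : Cg C u' v') : Cg C (u * u') (v * v') := by
  refine ⟨mul_mem huv.1 huv'.1, ?_⟩
  have : (u * u')⁻¹ * (v * v') = u'⁻¹ * (u⁻¹ * v) * u'⁻¹⁻¹ * (u'⁻¹ * v') := by group
  rw [this]
  exact mul_mem (conj_Eg (h.W_norm (inv_mem huv'.1)) huv.2) huv'.2

theorem cg_inv (hu : u ∈ Wg C) : Cg C u⁻¹ u :=
  ⟨inv_mem hu, by rw [inv_inv, ← pow_two]; exact h.sq_mem ha hu⟩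

theorem cg_comm (hu : u ∈ Wg C) (hv : v ∈ Wg C) : Cg C (u * v) (v * u) := by
  refine ⟨mul_mem hu hv, ?_⟩
  have : (u * v)⁻¹ * (v * u) = ⁅v⁻¹, u⁻¹⁆ := by simp only [commutatorElement_def]; group
  rw [this]; exact h.comm_mem ha (inv_mem hv) (inv_mem hu)

theorem cg_one : Cg C 1 u ↔ u ∈ Eg C :=
  ⟨fun h1 => by simpa using h1.2, fun h1 => ⟨one_mem _, by simpa using h1⟩⟩

theorem cg_iff (hu : u ∈ Wg C) : Cg C u v ↔ v * u⁻¹ ∈ Eg C := by
  refine ⟨fun h1 => ?_, fun h1 => ⟨hu, ?_⟩⟩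
  · simpa [mul_assoc] using conj_Eg (h.W_norm hu) h1.2
  · simpa [mul_assoc] using conj_Eg (h.W_norm (inv_mem hu)) h1

theorem cg_conj (hg : g ∈ normalizer C) (huv : Cg C u v) :
    Cg C (g * u * g⁻¹) (g * v * g⁻¹) :=
  ⟨conj_Wg hg huv.1, by simpa [mul_assoc] using conj_Eg hg huv.2⟩

theorem cg_sq (huv : Cg C u v) : u ^ 2 = v ^ 2 := by
  have : v = u * (u⁻¹ * v) := by group
  rw [this, (Eg_comm huv.2 (Wg_le huv.1)).symm.mul_pow, pow_two (u⁻¹ * v), h.E_sq ha huv.2, mul_one]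

theorem cg_commutator (huv : Cg C u v) (hw : w ∈ Wg C) : ⁅u, w⁆ = ⁅v, w⁆ := by
  have : v = u * (u⁻¹ * v) := by group
  rw [this, h.comm_mul_left ha huv.1 huv.2.1 hw,
    commutatorElement_eq_one_iff_commute.2 (Eg_comm huv.2 (Wg_le hw)), mul_one]

/-- translations act trivially modulo `E` -/
theorem cg_conj_W (hw : w ∈ Wg C) (hu : u ∈ Wg C) : Cg C (w * u * w⁻¹) u := by
  refine ⟨conj_Wg (h.W_norm hw) hu, ?_⟩
  have : (w * u * w⁻¹)⁻¹ * u = ⁅w, u⁻¹⁆ := by simp only [commutatorElement_def]; group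
  rw [this]; exact h.comm_mem ha hw (inv_mem hu)

/-- all points act in the same way modulo `E` -/
theorem cg_sigma (hx : x ∈ C) (hy : y ∈ C) (hu : u ∈ Wg C) :
    Cg C (x * u * x⁻¹) (y * u * y⁻¹) := by
  have := h.cg_conj ha (h.C_norm hx) (h.cg_symm ha (h.cg_conj_W ha (mem_Wg hx hy) hu))
  simpa [mul_assoc] using this

/-- the normaliser of `C` commutes with `σ` modulo `E` -/
theorem cg_norm (hg : g ∈ normalizer C) (hx : x ∈ C) (hu : u ∈ Wg C) :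
    Cg C (g * (x * u * x⁻¹) * g⁻¹) (x * (g * u * g⁻¹) * x⁻¹) := by
  have := h.cg_sigma ha (conj_C hg hx) hx (conj_Wg hg hu)
  simpa [mul_assoc] using this

/-- `1 + σ` is injective modulo `E` -/
theorem mem_E_of_cg (hx : x ∈ C) (hu : Cg C (x * u * x⁻¹) u) : u ∈ Eg C := by
  have hu' := h.cg_right ha hu
  have e1 : u⁻¹ * x * u⁻¹⁻¹ = x * ((x * u * x⁻¹)⁻¹ * u)⁻¹ := by
    rw [← ((mem_Eg.1 (inv_mem hu.2)).2 x hx).eq]; group
  have := h.eq_one_of_E ha hx (inv_mem hu.2) (e1 ▸ conj_C (h.W_norm (inv_mem hu')) hx)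
  rw [inv_eq_one, inv_mul_eq_one, mul_inv_eq_iff_eq_mul] at this
  exact h.mem_E ha hx hu' this.symm

/-- congruent translations move a point to the same point, and conversely -/
theorem cg_iff_conj (hx : x ∈ C) (hu : u ∈ Wg C) (hv : v ∈ Wg C) :
    Cg C u v ↔ u * x * u⁻¹ = v * x * v⁻¹ := by
  refine ⟨fun h1 => ?_, fun h1 => ⟨hu, h.mem_E ha hx (mul_mem (inv_mem hu) hv) ?_⟩⟩
  · calc _ = u * (x * (u⁻¹ * v)) * v⁻¹ := by group
      _ = _ := by rw [← ((mem_Eg.1 h1.2).2 x hx).eq]; group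
  · change u⁻¹ * v * x = x * (u⁻¹ * v)
    calc _ = u⁻¹ * (v * x * v⁻¹) * v := by group
      _ = _ := by rw [← h1]; group

/-- coordinates are injective -/
theorem eq_of_cg (hx : x ∈ C) (hy : y ∈ C) (hz : z ∈ C) (hc : Cg C (x⁻¹ * y) (x⁻¹ * z)) :
    y = z := by
  have h1 : y⁻¹ * z ∈ Eg C := by simpa [mul_assoc] using hc.2
  exact inv_mul_eq_one.1 (h.eq_one_of_E ha hy h1 (by simpa using hz))

theorem pow_conj_mem (hx : x ∈ C) (hw : w ∈ Wg C) (j : ℕ) : x ^ j * w * (x ^ j)⁻¹ ∈ Wg C :=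
  conj_Wg (pow_mem (h.C_norm hx) j) hw

theorem pow_conj_mem' (hx : x ∈ C) (hw : w ∈ Wg C) (j : ℕ) : (x ^ j)⁻¹ * w * x ^ j ∈ Wg C := by
  simpa using conj_Wg (inv_mem (pow_mem (h.C_norm hx) j)) hw

theorem Uu_mem (hx : x ∈ C) (hw : w ∈ Wg C) (hv : v ∈ Uu x w) : v ∈ Wg C := by
  rcases hv with rfl | ⟨j, rfl⟩
  exacts [hw, mul_mem (h.pow_conj_mem ha hx hw j) (h.pow_conj_mem' ha hx hw j)]

theorem Uu_commute (hx : x ∈ C) (hw : w ∈ Wg C) (hv : v ∈ Uu x w) : Commute v w := by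
  rcases hv with rfl | ⟨j, rfl⟩
  · exact Commute.refl _
  have h1 := h.pow_conj_mem ha hx hw j
  have h2 := h.pow_conj_mem' ha hx hw j
  rw [← commutatorElement_eq_one_iff_commute, h.comm_mul_left ha h1 h2 hw,
    ← h.comm_conj ha (pow_mem (subset_closure hx) j) h2 hw, h.comm_symm ha h1 hw]
  have : x ^ j * ((x ^ j)⁻¹ * w * x ^ j) * (x ^ j)⁻¹ = w := by group
  rw [this]; exact h.comm_sq ha hw h1

/-- Lemma Q -/
theorem flat_of_Uu (hx : x ∈ C) (hw : w ∈ Wg C) (hv : ∀ v ∈ Uu x w, v ^ 2 = 1) :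
    Flat C x (w * x * w⁻¹) := by
  have h0 := hv w (Or.inl rfl)
  refine h.flat_gen hx (conj_C (h.W_norm hw) hx) h0 (fun i => ?_) ?_
  · obtain ⟨j, hj⟩ := h.exists_half hx i
    have h1 := h.pow_conj_mem ha hx hw j
    have h2 := h.pow_conj_mem' ha hx hw j
    have h3 := hv _ (Or.inr ⟨j, rfl⟩)
    have e1 : (x ^ j * w * (x ^ j)⁻¹) ^ 2 = 1 := by rw [conj_pow, h0]; simp
    have e2 : ((x ^ j)⁻¹ * w * x ^ j) ^ 2 = 1 := by
      calc _ = (x ^ j)⁻¹ * w ^ 2 * x ^ j := by simp only [pow_two]; group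
        _ = 1 := by rw [h0]; simp
    rw [h.mul_sq ha h1 h2, e1, e2, one_mul, one_mul,
      ← h.comm_conj ha (pow_mem (subset_closure hx) j) h1 h2,
      commutatorElement_eq_one_iff_commute] at h3
    rw [hj, two_mul, pow_add]
    convert h3.symm using 1 <;> group
  · have : x⁻¹ * (w * x * w⁻¹) = x ^ (p - 1) * w * (x ^ (p - 1))⁻¹ * (x ^ 0 * w * (x ^ 0)⁻¹)⁻¹ := by
      rw [← h.inv_eq hx]; group
    rw [this]
    exact mul_mem (subset_closure ⟨_, rfl⟩) (inv_mem (subset_closure ⟨_, rfl⟩))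

end aff

section flat
variable (hx : x ∈ C) (hy : y ∈ C) (hf : Flat C x y)
include hx hy hf

theorem flat_pair (hu : u ∈ Ln C x y) (hv : v ∈ Ln C x y) : (u⁻¹ * v) ^ 2 = 1 := by
  obtain ⟨w, hw, rfl⟩ := (h.ln x y).exists_conj (h.aff_ln hx hy) (left_mem_Ln hx) hu
  have := hf _ (conj_C ((h.ln x y).W_norm (inv_mem hw)) hv)
  calc _ = w * (x⁻¹ * (w⁻¹ * v * w⁻¹⁻¹)) ^ 2 * w⁻¹ := by simp only [pow_two]; group
    _ = 1 := by rw [this]; simp

theorem flat_elem : (∀ u ∈ Wg (Ln C x y), ∀ v ∈ Wg (Ln C x y), Commute u v) ∧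
    ∀ u ∈ Wg (Ln C x y), u * u = 1 := by
  rw [Wg_eq (left_mem_Ln hx)]
  refine closure_elem ?_ ?_
  · rintro _ ⟨a, h1, rfl⟩ _ ⟨b, h2, rfl⟩
    have : ⁅x⁻¹ * a, x⁻¹ * b⁆ = (x⁻¹ * a) ^ 2 * (a⁻¹ * b) ^ 2 * ((x⁻¹ * b) ^ 2)⁻¹ := by
      simp only [commutatorElement_def, pow_two]; group
    rw [← commutatorElement_eq_one_iff_commute, this, hf a h1, hf b h2, h.flat_pair hx hy hf h1 h2]
    simp
  · rintro _ ⟨a, h1, rfl⟩
    rw [← pow_two, hf a h1]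

theorem flat_sq (hv : v ∈ Wg (Ln C x y)) : v * v = 1 := (h.flat_elem hx hy hf).2 v hv

theorem flat_comm (hu : u ∈ Wg (Ln C x y)) (hv : v ∈ Wg (Ln C x y)) : Commute u v :=
  (h.flat_elem hx hy hf).1 u hu v hv

theorem flat_pure (hv : v ∈ Wg (Ln C x y)) : ∃ z ∈ Ln C x y, v = x⁻¹ * z := by
  obtain ⟨z, hz, e, he, rfl⟩ := (h.ln x y).pure_aux (h.aff_ln hx hy) (left_mem_Ln hx) (K := ⊥)
    bot_le (fun u hu v hv => mem_bot.2
      (commutatorElement_eq_one_iff_commute.2 (h.flat_comm hx hy hf hu hv)))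
    (fun z hz => mem_bot.2 (hf z hz)) hv
  exact ⟨z, hz, by rw [mem_bot.1 he, mul_one]⟩

theorem flat_eq_one (hv : v ∈ Wg (Ln C x y)) (hc : Commute v x) : v = 1 := by
  obtain ⟨z, hz, rfl⟩ := h.flat_pure hx hy hf hv
  have : Commute x z := by simpa using (Commute.refl x).mul_right hc.symm
  rw [← h.eq_of_commute hx hz.1 this, inv_mul_cancel]

theorem flat_irr {K : Subgroup G} (hv : v ∈ Wg (Ln C x y)) (hv1 : v ≠ 1) (hK : v ∈ K)
    (hn : ∀ k ∈ K, x * k * x⁻¹ ∈ K) : Wg (Ln C x y) ≤ K := by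
  obtain ⟨z, hz, rfl⟩ := h.flat_pure hx hy hf hv
  rw [← h.ln_eq hx hy (left_mem_Ln hx) hz fun e => hv1 (inv_mul_eq_one.2 e)]
  exact h.Wg_ln_le hx hz.1 hK hn

theorem flat_sub (hu : u ∈ Ln C x y) (hv : v ∈ Ln C x y) : Flat C u v := fun z hz =>
  h.flat_pair hx hy hf hu ⟨hz.1, (closure_le _).2 (by rintro _ (rfl | rfl); exacts [hu.2, hv.2]) hz.2⟩

end flat

end Sys

end Cfsg.Agent.SY
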