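import Mathlib
import Cfsg.Agent.SY.Aff

set_option autoImplicit false
set_option linter.unusedSectionVars false

namespace Cfsg.Agent.SY

open Subgroup
open scoped commutatorElement

variable {G : Type*} [Group G] [Finite G] {p : ℕ} {C A B B' : Set G} {x y z e g : G}

namespace BlkAux

theorem conj_commute {a b : G} (g : G) (h : Commute a b) : Commute (g * a * g⁻¹) (g * b * g⁻¹) :=
  h.map (MulAut.conj g)

theorem sq_conj (g x y : G) :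
    ((g * x * g⁻¹)⁻¹ * (g * y * g⁻¹)) ^ 2 = g * (x⁻¹ * y) ^ 2 * g⁻¹ := by
  simp only [pow_two]; group

end BlkAux

namespace Min

variable (m : Min p C)
include m

theorem conj_mem (g : G) (hy : y ∈ C) : g * y * g⁻¹ ∈ C :=
  m.sys.conj_mem (m.gen ▸ mem_top g) hy

theorem eq_one (h : ∀ z ∈ C, Commute g z) : g = 1 := by
  have h1 : closure C ≤ centralizer ({g} : Set G) :=
    (closure_le _).2 fun z hz => mem_centralizer_singleton_iff.2 (h z hz).symm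
  rw [m.gen] at h1
  rw [← mem_bot, ← m.zc, mem_center_iff]
  exact fun a => mem_centralizer_singleton_iff.1 (h1 (mem_top a))

theorem aff_fx (he : e ≠ 1) : Aff (Fx C e) :=
  m.sub _ fun h => he (m.eq_one fun z _ =>
    (show Commute z e from mem_centralizer_singleton_iff.1 (h ▸ mem_top z)).symm)

theorem exists_blk_pair (hx : x ∈ C) (hy : y ∈ C) (hf : ¬ Flat C x y) :
    ∃ B, Blk C B ∧ x ∈ B ∧ y ∈ B := by
  obtain ⟨z, hz, h1⟩ : ∃ z ∈ Ln C x y, (x⁻¹ * z) ^ 2 ≠ 1 := by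
    by_contra! k; exact hf k
  have ha := m.sys.aff_ln hx hy x (left_mem_Ln hx) z hz
  exact ⟨_, ⟨x, hx, z, hz.1, h1, rfl⟩, mem_Fx.2 ⟨hx, ha x (left_mem_Ln hx)⟩,
    mem_Fx.2 ⟨hy, ha y (right_mem_Ln hy)⟩⟩

theorem exists_blk : ∃ B, Blk C B := by
  by_contra! k
  refine m.naff fun x hx y hy z _ => ?_
  by_cases h1 : (x⁻¹ * y) ^ 2 = 1
  · rw [h1]; exact Commute.one_left z
  · exact (k _ ⟨x, hx, y, hy, h1, rfl⟩).elim

theorem blk_sub (hB : Blk C B) : B ⊆ C := by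
  obtain ⟨x, -, y, -, -, rfl⟩ := hB
  exact Set.inter_subset_left

theorem blk_sys (hB : Blk C B) : Sys p B := by
  obtain ⟨x, -, y, -, -, rfl⟩ := hB
  exact m.sys.fx _

theorem blk_aff (hB : Blk C B) : Aff B := by
  obtain ⟨x, -, y, -, h1, rfl⟩ := hB
  exact m.aff_fx h1

theorem blk_exists_E (hB : Blk C B) : ∃ e ∈ Eg B, e ≠ 1 := by
  have hs := m.blk_sys hB
  have ha := m.blk_aff hB
  obtain ⟨x, hx, y, hy, h1, rfl⟩ := hB
  exact ⟨_, hs.sq_mem ha (mem_Wg (mem_Fx.2 ⟨hx, m.sys.sq x hx y hy⟩)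
    (mem_Fx.2 ⟨hy, m.sys.sq' hx hy⟩)), h1⟩

theorem blk_exists_notMem (hB : Blk C B) : ∃ y ∈ C, y ∉ B := by
  obtain ⟨x, -, y, -, h1, rfl⟩ := hB
  by_contra! k
  exact h1 (m.eq_one fun z hz => (mem_Fx.1 (k z hz)).2)

theorem blk_two (hB : Blk C B) : ∃ x ∈ B, ∃ y ∈ B, x ≠ y ∧ ¬ Flat C x y := by
  obtain ⟨x, hx, y, hy, h1, rfl⟩ := hB
  refine ⟨x, mem_Fx.2 ⟨hx, m.sys.sq x hx y hy⟩, y, mem_Fx.2 ⟨hy, m.sys.sq' hx hy⟩, ?_,
    fun hf => h1 (hf y (right_mem_Ln hy))⟩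
  rintro rfl
  simp at h1

/-- a block is a subspace -/
theorem blk_closure (hB : Blk C B) (hz : z ∈ C) (h : z ∈ closure B) : z ∈ B := by
  obtain ⟨x, -, y, -, -, rfl⟩ := hB
  exact ⟨hz, (closure_le _).2 Set.inter_subset_right h⟩

theorem blk_ln (hB : Blk C B) (hx : x ∈ B) (hy : y ∈ B) : Ln B x y = Ln C x y := by
  refine Set.Subset.antisymm (fun z hz => ⟨m.blk_sub hB hz.1, hz.2⟩) fun z hz => ⟨?_, hz.2⟩
  refine m.blk_closure hB hz.1 (closure_mono ?_ hz.2)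
  rintro _ (rfl | rfl)
  exacts [hx, hy]

theorem blk_flat (hB : Blk C B) (hx : x ∈ B) (hy : y ∈ B) : Flat B x y ↔ Flat C x y := by
  unfold Flat
  rw [m.blk_ln hB hx hy]

theorem blk_fx (hB : Blk C B) (he : e ∈ Eg B) (h1 : e ≠ 1) : Fx C e = B := by
  have h2 : B ⊆ Fx C e := fun z hz => mem_Fx.2 ⟨m.blk_sub hB hz, (mem_Eg.1 he).2 z hz⟩
  refine Set.Subset.antisymm (fun z hz => ?_) h2
  obtain ⟨x, hx, y, hy, -, rfl⟩ := hB
  exact mem_Fx.2 ⟨hz.1, m.aff_fx h1 x (h2 (mem_Fx.2 ⟨hx, m.sys.sq x hx y hy⟩)) y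
    (h2 (mem_Fx.2 ⟨hy, m.sys.sq' hx hy⟩)) z hz⟩

theorem blk_eq (hB : Blk C B) (hB' : Blk C B') (he : e ∈ Eg B) (he' : e ∈ Eg B') (h1 : e ≠ 1) :
    B = B' :=
  (m.blk_fx hB he h1).symm.trans (m.blk_fx hB' he' h1)

theorem blk_eq_pair (hB : Blk C B) (hB' : Blk C B') (hx : x ∈ B) (hy : y ∈ B) (hx' : x ∈ B')
    (hy' : y ∈ B') (hf : ¬ Flat C x y) : B = B' := by
  obtain ⟨z, hz, h1⟩ : ∃ z ∈ Ln C x y, (x⁻¹ * z) ^ 2 ≠ 1 := by
    by_contra! k; exact hf k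
  have h2 : z ∈ B := (show z ∈ Ln B x y from (m.blk_ln hB hx hy).symm ▸ hz).1
  have h3 : z ∈ B' := (show z ∈ Ln B' x y from (m.blk_ln hB' hx' hy').symm ▸ hz).1
  exact m.blk_eq hB hB' ((m.blk_sys hB).sq_mem (m.blk_aff hB) (mem_Wg hx h2))
    ((m.blk_sys hB').sq_mem (m.blk_aff hB') (mem_Wg hx' h3)) h1

theorem blk_norm (hB : Blk C B) (he : e ∈ Eg B) (h1 : e ≠ 1) (hc : Commute g e) :
    g ∈ normalizer B := by
  rw [← m.blk_fx hB he h1]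
  refine mem_norm_of_conj fun b hb => mem_Fx.2 ⟨m.conj_mem g hb.1, ?_⟩
  exact (hc.symm.mul_right (mem_Fx.1 hb).2).mul_right hc.symm.inv_right

theorem blk_conj (hB : Blk C B) (g : G) : Blk C ((fun b => g * b * g⁻¹) '' B) := by
  obtain ⟨x, hx, y, hy, h1, rfl⟩ := hB
  refine ⟨_, m.conj_mem g hx, _, m.conj_mem g hy, ?_, ?_⟩
  · rw [BlkAux.sq_conj]
    exact fun h => h1 (by simpa [mul_inv_eq_iff_eq_mul] using h)
  · rw [BlkAux.sq_conj]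
    ext z
    constructor
    · rintro ⟨b, hb, rfl⟩
      exact mem_Fx.2 ⟨m.conj_mem g hb.1, BlkAux.conj_commute g (mem_Fx.1 hb).2⟩
    · intro hz
      refine ⟨g⁻¹ * z * g⁻¹⁻¹, mem_Fx.2 ⟨m.conj_mem g⁻¹ hz.1, ?_⟩, by group⟩
      have := BlkAux.conj_commute g⁻¹ (mem_Fx.1 hz).2
      rwa [show g⁻¹ * (g * (x⁻¹ * y) ^ 2 * g⁻¹) * g⁻¹⁻¹ = (x⁻¹ * y) ^ 2 by group] at this

theorem blk_conj_E (he : e ∈ Eg B) (g : G) :
    g * e * g⁻¹ ∈ Eg ((fun b => g * b * g⁻¹) '' B) := by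
  obtain ⟨h1, h2⟩ := mem_Eg.1 he
  refine mem_Eg.2 ⟨?_, ?_⟩
  · have h3 : Wg B ≤ (Wg ((fun b => g * b * g⁻¹) '' B)).comap (MulAut.conj g).toMonoidHom := by
      refine (closure_le _).2 ?_
      rintro _ ⟨x, hx, y, hy, rfl⟩
      have := mem_Wg (C := (fun b => g * b * g⁻¹) '' B) ⟨x, hx, rfl⟩ ⟨y, hy, rfl⟩
      change g * (x⁻¹ * y) * g⁻¹ ∈ Wg _
      rwa [show g * (x⁻¹ * y) * g⁻¹ = (g * x * g⁻¹)⁻¹ * (g * y * g⁻¹) by group]
    exact h3 h1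
  · rintro _ ⟨b, hb, rfl⟩
    exact BlkAux.conj_commute g (h2 b hb)

theorem blk_norm_pair (hB : Blk C B) (hx : x ∈ B) (hy : y ∈ B) (hf : ¬ Flat C x y)
    (hx' : g * x * g⁻¹ ∈ B) (hy' : g * y * g⁻¹ ∈ B) : g ∈ normalizer B := by
  have h1 := m.blk_eq_pair hB (m.blk_conj hB g⁻¹) hx hy ⟨_, hx', by group⟩ ⟨_, hy', by group⟩ hf
  refine mem_norm_of_conj fun b hb => ?_
  rw [h1] at hb
  obtain ⟨c, hc, rfl⟩ := hb
  rwa [show g * (g⁻¹ * c * g⁻¹⁻¹) * g⁻¹ = c by group]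

theorem blk_E_mono (hB : Blk C B) (hA : A ⊆ B) (hx : x ∈ A) : Eg A ≤ Eg B := fun _ he =>
  (m.blk_sys hB).mem_E (m.blk_aff hB) (hA hx) (Wg_mono hA (Eg_le he)) ((mem_Eg.1 he).2 x hx)

end Min

end Cfsg.Agent.SY
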