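import Mathlib
import Cfsg.Agent.SY.Blk

/-! SY: the `f`-trick and the base case (a flat line and a point generate the whole group). -/

set_option autoImplicit false

namespace Cfsg.Agent.SY

open Subgroup
open scoped commutatorElement

variable {G : Type*} [Group G]

theorem bas_inv {a : G} (h : a * a = 1) : a⁻¹ = a := inv_eq_of_mul_eq_one_right h

theorem bas_three {a b c : G} (ha : a * a = 1) (hb : b * b = 1) (hc : c * c = 1)
    (h : (a * b * c) * (a * b * c) = 1) : Commute (a * b) (a * c) := by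
  have h1 : b * c * a * b = a * c := by
    have e : b * c * a * b = a⁻¹ * ((a * b * c) * (a * b * c)) * c⁻¹ := by group
    rw [e, h, bas_inv ha, bas_inv hc, mul_one]
  have h2 : b * a * c * b = c * a := by
    have e := congrArg (·⁻¹) h1
    simp only [mul_inv_rev, bas_inv ha, bas_inv hb, bas_inv hc] at e
    simpa only [mul_assoc] using e
  have h3 : b * a * c = c * a * b := by
    rw [← h2, mul_assoc (b * a * c), hb, mul_one]
  show a * b * (a * c) = a * c * (a * b)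
  calc a * b * (a * c) = a * (b * a * c) := by group
    _ = a * c * (a * b) := by rw [h3]; group

theorem bas_kappa {v t : G} (hv : v * v = 1) (ht : t ^ 4 = 1) (hvt : (v * t) ^ 4 = 1) :
    Commute ((v * t) ^ 2 * t ^ 2) (v * (t ^ 2 * v * (t ^ 2)⁻¹)) := by
  have hc : ∀ g : G, g * v * g⁻¹ * (g * v * g⁻¹) = 1 := fun g => by
    calc g * v * g⁻¹ * (g * v * g⁻¹) = g * (v * v) * g⁻¹ := by group
      _ = 1 := by rw [hv]; group
  have h1 : v * (t * v * t⁻¹) * (t ^ 2 * v * (t ^ 2)⁻¹) * (t ^ 3 * v * (t ^ 3)⁻¹) = 1 := by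
    have e : (v * t) ^ 4 = v * (t * v * t⁻¹) * (t ^ 2 * v * (t ^ 2)⁻¹) *
        (t ^ 3 * v * (t ^ 3)⁻¹) * t ^ 4 := by
      simp only [pow_succ, pow_zero, one_mul]; group
    rw [hvt, ht, mul_one] at e
    exact e.symm
  have h2 := eq_inv_of_mul_eq_one_left h1
  rw [bas_inv (hc _)] at h2
  have h3 := bas_three hv (hc t) (hc (t ^ 2)) (by rw [h2]; exact hc _)
  have e : (v * t) ^ 2 * t ^ 2 = v * (t * v * t⁻¹) * t ^ 4 := by
    simp only [pow_succ, pow_zero, one_mul]; group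
  rw [e, ht, mul_one]
  exact h3

theorem bas_sq_sq {a : G} (h : a ^ 4 = 1) : a ^ 2 * a ^ 2 = 1 := by
  rw [← pow_add]; exact h

variable [Finite G] {p : ℕ} {C : Set G} {x y z : G}

theorem Sys.bas_ftrick (h : Sys p C) (hx : x ∈ C) (hy : y ∈ C) (hz : z ∈ C)
    (hv : (x⁻¹ * y) ^ 2 = 1) : Commute (((y⁻¹ * z) ^ 2 * (x⁻¹ * z) ^ 2) ^ 2) y := by
  obtain ⟨v, rfl⟩ : ∃ v, y = x * v := ⟨x⁻¹ * y, by group⟩
  obtain ⟨t, rfl⟩ : ∃ t, z = x * t := ⟨x⁻¹ * z, by group⟩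
  have hv1 : v * v = 1 := by simpa [pow_two] using hv
  have e1 : (x * v)⁻¹ * (x * t) = v * t := by
    rw [mul_inv_rev, bas_inv hv1]; group
  have ht := h.four _ hx _ hz
  have hvt := h.four _ hy _ hz
  have hα := h.sq _ hx _ hz
  have hβ := h.sq _ hy _ hz
  rw [e1] at hvt hβ ⊢
  rw [inv_mul_cancel_left] at ht hα ⊢
  have hk := bas_kappa hv1 ht hvt
  have hαC : t ^ 2 ∈ closure C := by
    have : t = x⁻¹ * (x * t) := by group
    rw [this]
    exact pow_mem (mul_mem (inv_mem (subset_closure hx)) (subset_closure hz)) 2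
  have hβC : (v * t) ^ 2 ∈ closure C := by
    rw [← e1]
    exact pow_mem (mul_mem (inv_mem (subset_closure hy)) (subset_closure hz)) 2
  have hα2 := bas_sq_sq ht
  set α := t ^ 2
  set β := (v * t) ^ 2
  set κ := v * (α * v * α⁻¹) with hκ
  have hy' : α * (x * v) * α⁻¹ = x * v * κ := by
    rw [hκ, ← mul_assoc α x, hα.eq]
    calc x * α * v * α⁻¹ = x * (v * v) * (α * v * α⁻¹) := by rw [hv1]; group
      _ = _ := by group
  have hy'C : x * v * κ ∈ C := hy' ▸ h.conj_mem hαC hy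
  have hf1 : β * α * (x * v * κ) * (β * α)⁻¹ = x * v := by
    rw [← hy']
    calc β * α * (α * (x * v) * α⁻¹) * (β * α)⁻¹
        = β * (α * α) * (x * v) * (α * α)⁻¹ * β⁻¹ := by group
      _ = x * v := by rw [hα2, mul_one, inv_one, mul_one, hβ.eq]; group
  have hf2 : β * α * (x * v) * (β * α)⁻¹ = x * v * κ * (κ ^ 2)⁻¹ := by
    calc β * α * (x * v) * (β * α)⁻¹
        = β * α * (x * v * κ) * (β * α)⁻¹ * (β * α * κ * (β * α)⁻¹)⁻¹ := by group
      _ = _ := by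
        rw [hf1, hk.eq, mul_inv_cancel_right, pow_two]; group
  have hκ2 := h.sq _ hy _ hy'C
  have hκ4 := h.four _ hy _ hy'C
  rw [inv_mul_cancel_left] at hκ2 hκ4
  have h1 : (κ ^ 2)⁻¹ = 1 := h.eq_one_of_mul hy'C
    (hf2 ▸ h.conj_mem (mul_mem hβC hαC) hy)
    (hκ2.mul_right (Commute.self_pow κ 2).symm).inv_left
    (by rw [inv_pow, ← pow_mul, mul_comm, pow_mul, hκ4, one_pow, inv_one])
  rw [h1, mul_one] at hf2
  have h2 : (β * α) ^ 2 * (x * v) * ((β * α) ^ 2)⁻¹ = x * v := by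
    calc (β * α) ^ 2 * (x * v) * ((β * α) ^ 2)⁻¹
        = β * α * (β * α * (x * v) * (β * α)⁻¹) * (β * α)⁻¹ := by rw [pow_two]; group
      _ = x * v := by rw [hf2, hf1]
  exact mul_inv_eq_iff_eq_mul.mp h2

theorem Sys.ftrick (h : Sys p C) (hx : x ∈ C) (hy : y ∈ C) (hz : z ∈ C)
    (hv : (x⁻¹ * y) ^ 2 = 1) :
    Commute (((y⁻¹ * z) ^ 2 * (x⁻¹ * z) ^ 2) ^ 2) x ∧
      Commute (((y⁻¹ * z) ^ 2 * (x⁻¹ * z) ^ 2) ^ 2) y ∧
      Commute (((y⁻¹ * z) ^ 2 * (x⁻¹ * z) ^ 2) ^ 2) z := by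
  refine ⟨?_, h.bas_ftrick hx hy hz hv, ((h.sq' hy hz).mul_left (h.sq' hx hz)).pow_left 2⟩
  have h1 := (h.bas_ftrick hy hx hz (by
    rw [← inv_eq_one, ← inv_pow, mul_inv_rev, inv_inv]; exact hv)).inv_left
  rwa [← inv_pow, mul_inv_rev, bas_inv (bas_sq_sq (h.four _ hx _ hz)),
    bas_inv (bas_sq_sq (h.four _ hy _ hz))] at h1

omit [Finite G] in
theorem bas_pair_le {K : Subgroup G} {a b : G} (ha : a ∈ K) (hb : b ∈ K) :
    closure ({a, b} : Set G) ≤ K :=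
  (closure_le _).2 (by rintro _ (rfl | rfl); exacts [ha, hb])

/-- a subgroup containing `x` and further points of both lines is everything -/
theorem Sys.bas_top (h : Sys p C) (hx : x ∈ C) (hy : y ∈ C) (hz : z ∈ C)
    (hg : closure ({x, y, z} : Set G) = ⊤) {y₁ z₁ : G} (hy₁ : y₁ ∈ Ln C x y) (h1 : x ≠ y₁)
    (hz₁ : z₁ ∈ Ln C x z) (h2 : x ≠ z₁) {K : Subgroup G} (kx : x ∈ K) (ky : y₁ ∈ K)
    (kz : z₁ ∈ K) : K = ⊤ := by
  have e1 := h.closure_eq hx hy (left_mem_Ln hx) hy₁ h1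
  have e2 := h.closure_eq hx hz (left_mem_Ln hx) hz₁ h2
  rw [eq_top_iff, ← hg, closure_le]
  rintro _ (rfl | rfl | rfl)
  · exact kx
  · exact bas_pair_le kx ky (e1.ge (subset_closure (Or.inr rfl)))
  · exact bas_pair_le kx kz (e2.ge (subset_closure (Or.inr rfl)))

theorem Min.bas_one (m : Min p C) (hx : x ∈ C) (hy : y ∈ C) (hz : z ∈ C)
    (hg : closure ({x, y, z} : Set G) = ⊤) {y₁ z₁ : G} (hy₁ : y₁ ∈ Ln C x y) (h1 : x ≠ y₁)
    (hz₁ : z₁ ∈ Ln C x z) (h2 : x ≠ z₁) {g : G} (kx : Commute g x) (ky : Commute g y₁)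
    (kz : Commute g z₁) : g = 1 := by
  have e := m.sys.bas_top hx hy hz hg hy₁ h1 hz₁ h2 (K := centralizer {g})
    (mem_centralizer_singleton_iff.mpr kx.symm.eq) (mem_centralizer_singleton_iff.mpr ky.symm.eq)
    (mem_centralizer_singleton_iff.mpr kz.symm.eq)
  refine m.eq_one fun c _ => ?_
  exact (mem_centralizer_singleton_iff.mp (e ▸ mem_top c : c ∈ centralizer {g})).symm

theorem Sys.bas_norm (h : Sys p C) {u : G} (hu : u ∈ Ln C x y) :
    u ∈ normalizer (Wg (Ln C x y) : Set G) :=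
  mem_norm_of_conj fun _ hw => conj_Wg ((h.ln x y).le_norm (subset_closure hu)) hw

theorem Min.bas_flat (m : Min p C) (hx : x ∈ C) (hy : y ∈ C) (hz : z ∈ C) (hxy : x ≠ y)
    (hf : Flat C x y) (hg : closure ({x, y, z} : Set G) = ⊤) (hf' : Flat C x z) : False := by
  have h := m.sys
  have hzn : z ∈ normalizer (Wg (Ln C x y) : Set G) := by
    by_cases hxz : x = z
    · exact hxz ▸ h.bas_norm (left_mem_Ln hx)
    have e : z = x * (x⁻¹ * z) := by group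
    rw [e]
    refine mul_mem (h.bas_norm (left_mem_Ln hx)) (mem_norm_of_conj fun v hv => ?_)
    suffices hc : Commute (x⁻¹ * z) v by rw [hc.eq, mul_inv_cancel_right]; exact hv
    obtain ⟨y₁, hy₁, rfl⟩ := h.flat_pure hx hy hf hv
    by_cases h1 : x = y₁
    · rw [← h1, inv_mul_cancel]; exact Commute.one_right _
    have a1 := h.flat_sq hx hy hf hv
    have a2 := h.flat_sq hx hz hf' (mem_Wg (left_mem_Ln hx) (right_mem_Ln hz))
    have a3 := h.four _ hy₁.1 _ hz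
    have a4 := h.sq _ hy₁.1 _ hz
    have a5 := h.sq' hy₁.1 hz
    have e1 : y₁⁻¹ * z = (x⁻¹ * y₁) * (x⁻¹ * z) := by
      rw [← bas_inv a1]; group
    have e2 : x = y₁ * (x⁻¹ * y₁)⁻¹ := by group
    rw [e1] at a3 a4 a5
    have a6 : Commute (((x⁻¹ * y₁) * (x⁻¹ * z)) ^ 2) (x⁻¹ * y₁) := by
      generalize x⁻¹ * y₁ = a at a1 a3
      generalize x⁻¹ * z = b at a2 a3
      have b1 := bas_inv (bas_sq_sq a3)
      rw [← inv_pow, mul_inv_rev, bas_inv a1, bas_inv a2] at b1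
      show (a * b) ^ 2 * a = a * (a * b) ^ 2
      conv_rhs => rw [← b1]
      simp only [pow_two, mul_assoc]
    have a7 := m.bas_one hx hy hz hg hy₁ h1 (right_mem_Ln hz) hxz
      (by have := a4.mul_right a6.inv_right; rwa [← e2] at this) a4 a5
    have a8 := bas_inv ((pow_two _).symm.trans a7)
    rw [mul_inv_rev, bas_inv a1, bas_inv a2] at a8
    exact a8
  have hn : (Wg (Ln C x y)).Normal := by
    rw [← normalizer_eq_top_iff, eq_top_iff, ← hg, closure_le]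
    rintro _ (rfl | rfl | rfl)
    exacts [h.bas_norm (left_mem_Ln hx), h.bas_norm (right_mem_Ln hy), hzn]
  have hb := m.otwo _ hn ((h.ln x y).isPGroup (h.aff_ln hx hy))
  have h1 : x⁻¹ * y ∈ Wg (Ln C x y) := mem_Wg (left_mem_Ln hx) (right_mem_Ln hy)
  rw [hb, mem_bot, inv_mul_eq_one] at h1
  exact hxy h1

/-- the elements `g` with `g V N ⊆ V N` -/
def basP (V N : Subgroup G) : Subgroup G where
  carrier := {g | ∀ v ∈ V, ∃ w ∈ V, w⁻¹ * g * v ∈ N}
  one_mem' := fun v hv => ⟨v, hv, by simp⟩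
  mul_mem' := fun {a b} ha hb v hv => by
    obtain ⟨w, hw, h1⟩ := hb v hv
    obtain ⟨u, hu, h2⟩ := ha w hw
    exact ⟨u, hu, by simpa [mul_assoc] using mul_mem h2 h1⟩
  inv_mem' := fun {a} ha => by
    have hp : ∀ n : ℕ, ∀ v ∈ V, ∃ w ∈ V, w⁻¹ * a ^ n * v ∈ N := by
      intro n
      induction n with
      | zero => exact fun v hv => ⟨v, hv, by simp⟩
      | succ n ih =>
        intro v hv
        obtain ⟨w, hw, h1⟩ := ha v hv
        obtain ⟨u, hu, h2⟩ := ih w hw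
        exact ⟨u, hu, by simpa [mul_assoc, pow_succ] using mul_mem h2 h1⟩
    have e : a⁻¹ = a ^ (orderOf a - 1) := by
      rw [eq_comm, ← mul_eq_one_iff_eq_inv, ← pow_succ,
        Nat.sub_add_cancel (orderOf_pos a), pow_orderOf_eq_one]
    rw [e]
    exact hp _

omit [Finite G] in
theorem bas_ncl {a : G} (h2 : a * a = 1) (hc : ∀ g : G, Commute a (g * a * g⁻¹)) :
    IsPGroup 2 (normalClosure ({a} : Set G)) := by
  have hS : ∀ s ∈ Group.conjugatesOfSet ({a} : Set G), ∃ g : G, s = g * a * g⁻¹ := by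
    intro s hs
    obtain ⟨b, hb, hs⟩ := Group.mem_conjugatesOfSet_iff.mp hs
    obtain ⟨g, rfl⟩ := isConj_iff.mp hs
    exact ⟨g, by rw [Set.mem_singleton_iff.mp hb]⟩
  have h1 : normalClosure ({a} : Set G) ≤ centralizer (Group.conjugatesOfSet {a}) := by
    refine (closure_le _).2 fun s hs r hr => ?_
    obtain ⟨g, rfl⟩ := hS s hs
    obtain ⟨k, rfl⟩ := hS r hr
    have := (hc (k⁻¹ * g)).eq
    calc k * a * k⁻¹ * (g * a * g⁻¹) = k * (a * (k⁻¹ * g * a * (k⁻¹ * g)⁻¹)) * k⁻¹ := by group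
      _ = _ := by rw [this]; group
  have h3 : ∀ e ∈ normalClosure ({a} : Set G), e * e = 1 := by
    intro e he
    induction he using closure_induction with
    | mem s hs =>
      obtain ⟨g, rfl⟩ := hS s hs
      calc g * a * g⁻¹ * (g * a * g⁻¹) = g * (a * a) * g⁻¹ := by group
        _ = 1 := by rw [h2]; group
    | one => exact one_mul 1
    | mul s r hs hr i1 i2 =>
      have hsr : s * r = r * s := mem_centralizer_singleton_iff.mp
        ((closure_le (centralizer {r})).2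
          (fun q hq => mem_centralizer_singleton_iff.mpr (h1 hr q hq)) hs)
      calc s * r * (s * r) = s * (r * s) * r := by group
        _ = (s * s) * (r * r) := by rw [← hsr]; group
        _ = 1 := by rw [i1, i2, one_mul]
    | inv s _ i1 => rw [← mul_inv_rev, i1, inv_one]
  exact fun e => ⟨1, Subtype.ext (by simpa [pow_two] using h3 e e.2)⟩

theorem Min.base_false (m : Min p C) (hx : x ∈ C) (hy : y ∈ C) (hz : z ∈ C) (hxy : x ≠ y)
    (hf : Flat C x y) (hg : closure ({x, y, z} : Set G) = ⊤) : False := by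
  by_cases hf' : Flat C x z
  · exact m.bas_flat hx hy hz hxy hf hg hf'
  have h := m.sys
  obtain ⟨z₁, hz₁, hα⟩ : ∃ z₁ ∈ Ln C x z, (x⁻¹ * z₁) ^ 2 ≠ 1 := by
    by_contra hc
    push Not at hc
    exact hf' hc
  have hxz : x ≠ z₁ := by rintro rfl; simp at hα
  have hB : Blk C (Fx C ((x⁻¹ * z₁) ^ 2)) := ⟨x, hx, z₁, hz₁.1, hα, rfl⟩
  have hxB : x ∈ Fx C ((x⁻¹ * z₁) ^ 2) := mem_Fx.mpr ⟨hx, h.sq _ hx _ hz₁.1⟩
  have hzB : z₁ ∈ Fx C ((x⁻¹ * z₁) ^ 2) := mem_Fx.mpr ⟨hz₁.1, h.sq' hx hz₁.1⟩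
  have hE := (m.blk_sys hB).sq_mem (m.blk_aff hB) (mem_Wg hxB hzB)
  have ht4 := h.four _ hx _ hz₁.1
  set B := Fx C ((x⁻¹ * z₁) ^ 2)
  have hxN : x ∈ normalizer B := (m.blk_sys hB).le_norm (subset_closure hxB)
  have htN : x⁻¹ * z₁ ∈ normalizer B := m.blk_norm hB hE hα (Commute.self_pow _ 2)
  -- `v t v` normalises `B`
  have hvt : ∀ v ∈ Wg (Ln C x y), v⁻¹ * (x⁻¹ * z₁) * v ∈ normalizer B := by
    intro v hv
    have a1 := h.flat_sq hx hy hf hv
    obtain ⟨y₁, hy₁, rfl⟩ := h.flat_pure hx hy hf hv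
    by_cases h1 : x = y₁
    · rw [← h1]; simpa using htN
    obtain ⟨c1, c2, c3⟩ := h.ftrick hx hy₁.1 hz₁.1 ((pow_two _).trans a1)
    have a2 := bas_inv ((pow_two _).symm.trans (m.bas_one hx hy hz hg hy₁ h1 hz₁ hxz c1 c2 c3))
    rw [mul_inv_rev, bas_inv (bas_sq_sq ht4),
      bas_inv (bas_sq_sq (h.four _ hy₁.1 _ hz₁.1))] at a2
    have a3 := m.blk_norm hB hE hα (g := (y₁⁻¹ * z₁) ^ 2) a2.symm
    have e : (x⁻¹ * y₁)⁻¹ * (x⁻¹ * z₁) * (x⁻¹ * y₁) = (y₁⁻¹ * z₁) ^ 2 * (x⁻¹ * z₁)⁻¹ := by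
      calc _ = (x⁻¹ * y₁)⁻¹ * (x⁻¹ * z₁) * (x⁻¹ * y₁)⁻¹ := by rw [bas_inv a1]
        _ = _ := by rw [pow_two]; group
    rw [e]
    exact mul_mem a3 (inv_mem htN)
  have hP : basP (Wg (Ln C x y)) (normalizer B) = ⊤ := by
    have px : x ∈ basP (Wg (Ln C x y)) (normalizer B) := fun v hv =>
      ⟨x * v * x⁻¹, conj_Wg ((h.ln x y).le_norm (subset_closure (left_mem_Ln hx))) hv,
        by simpa [mul_assoc] using hxN⟩
    have pv : x⁻¹ * y ∈ basP (Wg (Ln C x y)) (normalizer B) := fun v hv =>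
      ⟨x⁻¹ * y * v, mul_mem (mem_Wg (left_mem_Ln hx) (right_mem_Ln hy)) hv,
        by rw [mul_assoc, inv_mul_cancel]; exact one_mem _⟩
    have pt : x⁻¹ * z₁ ∈ basP (Wg (Ln C x y)) (normalizer B) := fun v hv => ⟨v, hv, hvt v hv⟩
    exact h.bas_top hx hy hz hg (right_mem_Ln hy) hxy hz₁ hxz px
      (by simpa using mul_mem px pv) (by simpa using mul_mem px pt)
  have hall : ∀ g : G, g⁻¹ * (x⁻¹ * z₁) ^ 2 * g ∈ normalizer B := by
    intro g
    obtain ⟨w, hw, h1⟩ := (hP ▸ mem_top g : g ∈ basP (Wg (Ln C x y)) (normalizer B)) 1 (one_mem _)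
    have h2 := pow_mem (mul_mem (mul_mem (inv_mem h1) (hvt w hw)) h1) 2
    have e : g⁻¹ * (x⁻¹ * z₁) ^ 2 * g = ((w⁻¹ * g * 1)⁻¹ * (w⁻¹ * (x⁻¹ * z₁) * w) *
        (w⁻¹ * g * 1)) ^ 2 := by rw [pow_two, pow_two]; group
    rwa [e]
  have hα2 := bas_sq_sq ht4
  generalize (x⁻¹ * z₁) ^ 2 = α at hα hE hall hα2
  have hc : ∀ g : G, Commute α (g * α * g⁻¹) := by
    intro g
    by_contra hn
    have h1 : α * (g * α * g⁻¹) * α⁻¹ * (g * α * g⁻¹)⁻¹ ≠ 1 := fun e => hn (by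
      rw [mul_inv_eq_one, mul_inv_eq_iff_eq_mul] at e; exact e)
    have h2 : α * (g * α * g⁻¹) * α⁻¹ * (g * α * g⁻¹)⁻¹ ∈ Eg B := by
      have := mul_mem hE (conj_Eg (hall g⁻¹) (inv_mem hE))
      rw [inv_inv] at this
      simpa only [mul_assoc] using this
    have h3 := m.blk_conj_E (mul_mem (conj_Eg (hall g) hE) (inv_mem hE)) g
    have e : g * (g⁻¹ * α * g * α * (g⁻¹ * α * g)⁻¹ * α⁻¹) * g⁻¹ =
        α * (g * α * g⁻¹) * α⁻¹ * (g * α * g⁻¹)⁻¹ := by group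
    rw [e] at h3
    have h4 := m.blk_eq hB (m.blk_conj hB g) h2 h3 h1
    have h5 := m.blk_conj_E hE g
    rw [← h4] at h5
    exact hn (Eg_comm hE (Wg_le (Eg_le h5)))
  have hb := m.otwo _ normalClosure_normal (bas_ncl hα2 hc)
  have h1 : α ∈ normalClosure ({α} : Set G) := subset_normalClosure rfl
  rw [hb, mem_bot] at h1
  exact hα h1

end Cfsg.Agent.SY
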