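import Mathlib
import Cfsg.Agent.SY.Blk

set_option autoImplicit false

namespace Cfsg.Agent.SY

open Subgroup
open scoped commutatorElement

variable {G : Type*} [Group G] [Finite G] {p : ℕ} {C : Set G}

namespace MM

/-- the elements of `Uu x w`, indexed -/
def F (x : G) : Option ℕ → G → G
  | none, w => w
  | some j, w => (x ^ j * w * (x ^ j)⁻¹) * ((x ^ j)⁻¹ * w * x ^ j)

omit [Finite G] in
theorem mem_Uu {x w v : G} : v ∈ Uu x w ↔ ∃ o, v = F x o w :=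
  ⟨fun h => h.elim (fun e => ⟨none, e⟩) fun ⟨j, e⟩ => ⟨some j, e⟩, by
    rintro ⟨_ | j, e⟩
    exacts [Or.inl e, Or.inr ⟨j, e⟩]⟩

omit [Finite G] in
theorem F_mem (x : G) (o : Option ℕ) (w : G) : F x o w ∈ Uu x w := mem_Uu.2 ⟨o, rfl⟩

section aff

variable {B : Set G} {x u v g : G} (h : Sys p B) (ha : Aff B) (hx : x ∈ B)
include h ha hx

omit ha in
theorem pn (j : ℕ) : x ^ j ∈ normalizer B := h.le_norm (pow_mem (subset_closure hx) j)

theorem F_cg (o : Option ℕ) (huv : Cg B u v) : Cg B (F x o u) (F x o v) := by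
  rcases o with _ | j
  · exact huv
  · have := h.cg_conj ha (inv_mem (pn h hx j)) huv
    rw [inv_inv] at this
    exact h.cg_mul ha (h.cg_conj ha (pn h hx j) huv) this

theorem F_mul (o : Option ℕ) (hu : u ∈ Wg B) (hv : v ∈ Wg B) :
    Cg B (F x o (u * v)) (F x o u * F x o v) := by
  rcases o with _ | j
  · exact h.cg_refl ha (mul_mem hu hv)
  · have a1 := conj_Wg (pn h hx j) hu
    have a2 := conj_Wg (pn h hx j) hv
    have b1 := conj_Wg (inv_mem (pn h hx j)) hu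
    have b2 := conj_Wg (inv_mem (pn h hx j)) hv
    rw [inv_inv] at b1 b2
    have := h.cg_mul ha (h.cg_mul ha (h.cg_refl ha a1) (h.cg_comm ha a2 b1)) (h.cg_refl ha b2)
    convert this using 1 <;> simp only [F] <;> group

theorem norm_pow (hg : g ∈ normalizer B) (j : ℕ) (hu : u ∈ Wg B) :
    Cg B (g * (x ^ j * u * (x ^ j)⁻¹) * g⁻¹) (x ^ j * (g * u * g⁻¹) * (x ^ j)⁻¹) := by
  induction j with
  | zero => simpa using h.cg_refl ha (conj_Wg hg hu)
  | succ j ih =>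
    have h1 := h.cg_norm ha hg hx (conj_Wg (pn h hx j) hu)
    have h2 := h.cg_conj ha (h.le_norm (subset_closure hx)) ih
    convert h.cg_trans ha h1 h2 using 1 <;> rw [pow_succ'] <;> group

theorem F_norm (hg : g ∈ normalizer B) (o : Option ℕ) (hu : u ∈ Wg B) :
    Cg B (g * F x o u * g⁻¹) (F x o (g * u * g⁻¹)) := by
  rcases o with _ | j
  · exact h.cg_refl ha (conj_Wg hg hu)
  · have e : (x ^ j)⁻¹ = x ^ ((p - 1) * j) := by
      refine inv_eq_of_mul_eq_one_right ?_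
      rw [← pow_add, show j + (p - 1) * j = p * j by
        obtain ⟨k, rfl⟩ : ∃ k, p = k + 1 := ⟨p - 1, by have := h.prime.pos; omega⟩
        simp [add_mul, add_comm], pow_mul, h.pow_p hx, one_pow]
    have h2 := norm_pow h ha hx hg ((p - 1) * j) hu
    rw [← e, inv_inv] at h2
    convert h.cg_mul ha (norm_pow h ha hx hg j hu) h2 using 1 <;> (simp only [F]; try group)

theorem F_comm (o : Option ℕ) (hu : u ∈ Wg B) (hv : v ∈ Wg B) (hc : ∀ w ∈ Uu x v, Commute u w) :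
    ⁅F x o u, F x o v⁆ = 1 := by
  have h0 : ⁅u, v⁆ = 1 := commutatorElement_eq_one_iff_commute.2 (hc v (Or.inl rfl))
  rcases o with _ | j
  · exact h0
  · have a1 := conj_Wg (pn h hx j) hu
    have a2 := conj_Wg (pn h hx j) hv
    have b1 := conj_Wg (inv_mem (pn h hx j)) hu
    have b2 := conj_Wg (inv_mem (pn h hx j)) hv
    have c1 := conj_Wg (pn h hx (2 * j)) hv
    have c2 := conj_Wg (inv_mem (pn h hx (2 * j))) hv
    have m : x ^ j ∈ closure B := pow_mem (subset_closure hx) j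
    have e1 := h.comm_conj ha m hu hv
    have e2 := h.comm_conj ha (inv_mem m) hu hv
    have e3 := h.comm_conj ha m hu c2
    have e4 := h.comm_conj ha (inv_mem m) hu c1
    have e5 := h.comm_mul_right ha c1 c2 hu
    have e6 : ⁅u, x ^ (2 * j) * v * (x ^ (2 * j))⁻¹ * ((x ^ (2 * j))⁻¹ * v * x ^ (2 * j))⁆ = 1 :=
      commutatorElement_eq_one_iff_commute.2 (hc _ (Or.inr ⟨2 * j, rfl⟩))
    rw [inv_inv] at b1 b2 c2 e2 e3 e4 e5
    rw [show x ^ j * ((x ^ (2 * j))⁻¹ * v * x ^ (2 * j)) * (x ^ j)⁻¹ = (x ^ j)⁻¹ * v * x ^ j by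
      rw [two_mul, pow_add]; group] at e3
    rw [show (x ^ j)⁻¹ * (x ^ (2 * j) * v * (x ^ (2 * j))⁻¹) * x ^ j = x ^ j * v * (x ^ j)⁻¹ by
      rw [two_mul, pow_add]; group] at e4
    simp only [F]
    rw [h.comm_mul_left ha a1 b1 (mul_mem a2 b2), h.comm_mul_right ha a2 b2 a1, h.comm_mul_right ha a2 b2 b1,
      e1, e2, e3, e4, h0, one_mul, mul_one]
    rw [e6] at e5
    exact mul_eq_one_comm.1 e5.symm

end aff

variable {B B' : Set G} (m : Min p C) (hn : ∀ x ∈ C, ∀ y ∈ C, x ≠ y → ¬ Flat C x y)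
  (hB : Blk C B) (hB' : Blk C B') (hne : B ≠ B')
include m hB hB' hne

theorem E_inter {e : G} (he : e ∈ Eg B) (he' : e ∈ Eg B') : e = 1 := by
  by_contra h1
  exact hne (m.blk_eq hB hB' he he' h1)

include hn

omit hB' hne in
theorem fix_of {x w : G} (hx : x ∈ B) (hw : w ∈ Wg B) (h : ∀ v ∈ Uu x w, v ^ 2 = 1) : w * x * w⁻¹ = x := by
  have hy : w * x * w⁻¹ ∈ B := (m.blk_sys hB).conj_mem (Wg_le hw) hx
  by_contra e
  exact hn x (m.blk_sub hB hx) _ (m.blk_sub hB hy) (Ne.symm e)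
    ((m.blk_flat hB hx hy).1 ((m.blk_sys hB).flat_of_Uu (m.blk_aff hB) hx hw h))

omit hne in
theorem T {η x : G} (hη : η ∈ Eg B') (h1 : η ≠ 1) (hN : η ∈ normalizer B) (hx : x ∈ B) (hx' : x ∉ B') :
    ∃ u ∈ Wg B, u * x * u⁻¹ = η * x * η⁻¹ ∧
      (∀ v ∈ Uu x u, v ∈ closure ({x, η * x * η⁻¹} : Set G) ∧ Commute v η) ∧ ∃ v ∈ Uu x u, v ^ 2 ≠ 1 := by
  have s := m.blk_sys hB
  have a := m.blk_aff hB
  have hy : η * x * η⁻¹ ∈ B := conj_C hN hx
  have ηη : η * η = 1 := (m.blk_sys hB').E_sq (m.blk_aff hB') hη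
  have sl := s.ln x (η * x * η⁻¹)
  have al := s.aff_ln hx hy
  obtain ⟨u, hu, e⟩ := sl.exists_conj al (left_mem_Ln hx) (right_mem_Ln hy)
  have huB : u ∈ Wg B := Wg_mono Set.inter_subset_left hu
  have huH : u ∈ closure ({x, η * x * η⁻¹} : Set G) := s.closure_ln hx hy ▸ Wg_le hu
  have u2 : Commute (u ^ 2) x := (mem_Eg.1 (sl.sq_mem al hu)).2 x (left_mem_Ln hx)
  have hc : closure ({x, η * x * η⁻¹} : Set G) ≤ centralizer {u⁻¹ * η} := by
    rw [closure_le]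
    rintro y (rfl | rfl) <;> refine mem_centralizer_singleton_iff.2 (mul_inv_eq_iff_eq_mul.1 ?_).symm
    · calc _ = u⁻¹ * (η * y * η⁻¹) * u := by group
        _ = _ := by rw [← e]; group
    · calc _ = u⁻¹ * ((η * η) * x * (η * η)⁻¹) * u := by group
        _ = u⁻¹ * (u ^ 2 * x) * (u ^ 2)⁻¹ * u := by rw [ηη, u2.eq]; group
        _ = _ := by rw [← e, sq]; group
  refine ⟨u, huB, e, fun v hv => ?_, ?_⟩
  · have hv' : v ∈ closure ({x, η * x * η⁻¹} : Set G) := by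
      refine (closure_le _).2 ?_ (Uu_mem_closure hv)
      rintro y (rfl | rfl)
      exacts [subset_closure (Or.inl rfl), huH]
    have := (s.Uu_commute a hx huB hv).mul_right (show Commute v (u⁻¹ * η) from mem_centralizer_singleton_iff.1 (hc hv'))
    exact ⟨hv', by simpa using this⟩
  · by_contra hc
    push Not at hc
    have := fix_of m hn hB hx huB hc
    rw [e] at this
    exact hx' (m.blk_fx hB' hη h1 ▸ mem_Fx.2 ⟨m.blk_sub hB hx, mul_inv_eq_iff_eq_mul.1 this⟩)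

theorem K1 {x u r v : G} (hx : x ∈ B) (hu : u ∈ Wg B) (hU : ∀ v ∈ Uu x u, v ∈ normalizer B') (hr : r ∈ Wg B')
    (hrN : r ∈ normalizer B) (hv : v ∈ Uu x u) : r * v * r⁻¹ * v⁻¹ ∈ Eg B := by
  have s := m.blk_sys hB
  have a := m.blk_aff hB
  have n : r * u * r⁻¹ * u⁻¹ ∈ Wg B := mul_mem (conj_Wg hrN hu) (inv_mem hu)
  have k : ∀ o, Cg B (r * F x o u * r⁻¹ * (F x o u)⁻¹) (F x o (r * u * r⁻¹ * u⁻¹)) := fun o => by
    have h1 := F_mul s a hx o n hu
    rw [inv_mul_cancel_right] at h1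
    have := s.cg_mul a (s.cg_trans a (F_norm s a hx hrN o hu) h1)
      (s.cg_refl a (inv_mem (s.Uu_mem a hx hu (F_mem x o u))))
    rwa [mul_inv_cancel_right] at this
  have h2 : r * u * r⁻¹ * u⁻¹ ∈ Eg B := by
    refine s.mem_E a hx n (mul_inv_eq_iff_eq_mul.1 (fix_of m hn hB hx n fun w hw => ?_))
    obtain ⟨o, rfl⟩ := mem_Uu.1 hw
    rw [← s.cg_sq a (k o)]
    refine E_inter m hB hB' hne (s.sq_mem a (k o).1) ((m.blk_sys hB').sq_mem (m.blk_aff hB') ?_)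
    have := mul_mem hr (conj_Wg (hU _ (F_mem x o u)) (inv_mem hr))
    simpa only [mul_assoc] using this
  obtain ⟨o, rfl⟩ := mem_Uu.1 hv
  have h3 := F_cg s a hx o ((s.cg_one a).2 h2)
  rw [show F x o 1 = 1 by rcases o with _ | j <;> simp [F]] at h3
  exact (s.cg_one a).1 (s.cg_trans a h3 (s.cg_symm a (k o)))

end MM

open MM in
theorem Min.nice_false (m : Min p C) (hn : ∀ x ∈ C, ∀ y ∈ C, x ≠ y → ¬ Flat C x y) : False := by
  obtain ⟨B', hB'⟩ := m.exists_blk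
  obtain ⟨η, hη, η1⟩ := m.blk_exists_E hB'
  obtain ⟨x, hxC, hx'⟩ := m.blk_exists_notMem hB'
  have s' := m.blk_sys hB'
  have a' := m.blk_aff hB'
  have hf : ¬ Flat C x (η * x * η⁻¹) := hn x hxC _ (m.conj_mem η hxC) fun e =>
    hx' (m.blk_fx hB' hη η1 ▸ mem_Fx.2 ⟨hxC, mul_inv_eq_iff_eq_mul.1 e.symm⟩)
  obtain ⟨B, hB, hx, hy⟩ := m.exists_blk_pair hxC (m.conj_mem η hxC) hf
  have s := m.blk_sys hB
  have a := m.blk_aff hB
  have hne : B ≠ B' := fun e => hx' (e ▸ hx)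
  have hN : η ∈ normalizer B := m.blk_norm_pair hB hx hy hf hy (by
    rwa [show η * (η * x * η⁻¹) * η⁻¹ = (η * η) * x * (η * η)⁻¹ by group, s'.E_sq a' hη, one_mul, inv_one, mul_one])
  obtain ⟨u, hu, -, hU, u₁, hu₁, z1⟩ := T m hn hB hB' hη η1 hN hx hx'
  have hU' : ∀ v ∈ Uu x u, v ∈ normalizer B' := fun v hv => m.blk_norm hB' hη η1 (hU v hv).2
  have u₁W := s.Uu_mem a hx hu hu₁
  have u₁N := hU' _ hu₁
  have zE := s.sq_mem a u₁W
  have star : ∀ r ∈ Wg B', r ∈ normalizer B → r * u₁ * r⁻¹ * u₁⁻¹ ∈ Eg B' → Commute r u₁ := fun r hr hrN he =>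
    commutatorElement_eq_one_iff_commute.1 (E_inter m hB hB' hne (K1 m hn hB hB' hne hx hu hU' hr hrN hu₁) he)
  obtain ⟨b, hb, hbB⟩ : ∃ b ∈ B', b ∉ B := by
    obtain ⟨b, hb, c, hc, -, hbc⟩ := m.blk_two hB'
    by_contra hh
    push Not at hh
    exact hne (m.blk_eq_pair hB hB' (hh b hb) (hh c hc) hb hc hbc)
  obtain ⟨u', hu', e', hV, v, hv, v1⟩ := T m hn hB' hB zE z1 (pow_mem u₁N 2) hb hbB
  have hV' : ∀ w ∈ Uu b u', w ∈ normalizer B := fun w hw => m.blk_norm hB zE z1 (hV w hw).2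
  have c1 : ∀ w ∈ Uu b u', Commute w u₁ := fun w hw => star w (s'.Uu_mem a' hb hu' hw) (hV' w hw) (by
    have := inv_mem (K1 m hn hB' hB hne.symm hb hu' hV' u₁W u₁N hw)
    simpa [mul_assoc] using this)
  obtain ⟨t, ht, et⟩ := s'.exists_conj a' hb (conj_C u₁N hb)
  have ht' := conj_Wg u₁N ht
  have g1 : Cg B' (u₁ * t * u₁⁻¹ * t) u' := (s'.cg_iff_conj a' hb (mul_mem ht' ht) hu').2 (by
    calc _ = u₁ * t * u₁⁻¹ * (t * b * t⁻¹) * (u₁ * t * u₁⁻¹)⁻¹ := by group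
      _ = u₁ * (t * b * t⁻¹) * u₁⁻¹ := by rw [et]; nth_rw 2 [← et]; group
      _ = _ := by rw [et, e', sq]; group)
  have g2 : Cg B' (u₁ * t * u₁⁻¹) (t * u') := by
    have := s'.cg_mul a' g1 (s'.cg_inv a' ht)
    rw [mul_inv_cancel_right] at this
    exact s'.cg_trans a' this (s'.cg_comm a' hu' ht)
  have hc : closure ({b, u₁ ^ 2 * b * (u₁ ^ 2)⁻¹} : Set G) ≤ centralizer {t⁻¹ * u₁} := by
    rw [closure_le]
    rintro y (rfl | rfl) <;> refine mem_centralizer_singleton_iff.2 (mul_inv_eq_iff_eq_mul.1 ?_).symm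
    · calc _ = t⁻¹ * (u₁ * y * u₁⁻¹) * t := by group
        _ = _ := by rw [← et]; group
    · have h1 := (s'.cg_iff_conj a' hb (mul_mem (mul_mem (inv_mem ht) hu') (inv_mem (inv_mem ht))) hu').1
        (s'.cg_conj_W a' (inv_mem ht) hu')
      calc _ = t⁻¹ * (u₁ * u') * b * (u₁ * u')⁻¹ * t := by rw [← e']; group
        _ = t⁻¹ * u' * (u₁ * b * u₁⁻¹) * u'⁻¹ * t := by rw [← (c1 u' (Or.inl rfl)).eq]; group
        _ = _ := by rw [← et, ← e', ← h1]; group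
  have c2 : ∀ w ∈ Uu b u', Commute t w := fun w hw => by
    have := (c1 w hw).mul_right
      (show Commute w (t⁻¹ * u₁) from mem_centralizer_singleton_iff.1 (hc (hV w hw).1)).inv_right
    simpa using this.symm
  obtain ⟨o, rfl⟩ := mem_Uu.1 hv
  have mW := s'.Uu_mem a' hb ht (F_mem b o t)
  have vW := s'.Uu_mem a' hb hu' hv
  have g3 := s'.cg_sq a' (s'.cg_trans a' (F_norm s' a' hb u₁N o ht)
    (s'.cg_trans a' (F_cg s' a' hb o g2) (F_mul s' a' hb o ht hu')))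
  rw [s'.mul_sq a' mW vW, F_comm s' a' hb o ht hu' c2, mul_one, conj_pow] at g3
  have eE := s'.sq_mem a' mW
  have vE := s'.sq_mem a' vW
  have cv : Commute (F b o u' ^ 2) u₁ := (c1 _ hv).pow_left 2
  generalize F b o t ^ 2 = e at g3 eE
  generalize F b o u' ^ 2 = ζ at g3 vE cv v1
  have c3 : Commute e (u₁ ^ 2) := by
    refine (mul_inv_eq_iff_eq_mul.1 ?_).symm
    calc _ = u₁ * (u₁ * e * u₁⁻¹) * u₁⁻¹ := by rw [sq]; group
      _ = u₁ * e * u₁⁻¹ * (u₁ * ζ) * u₁⁻¹ := by nth_rw 1 [g3]; group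
      _ = e * (ζ * ζ) := by rw [g3, ← cv.eq]; group
      _ = e := by rw [s'.E_sq a' vE, mul_one]
  have c4 := star e (Eg_le eE) (m.blk_norm hB zE z1 c3) (by
    rw [show e * u₁ * e⁻¹ * u₁⁻¹ = e * (u₁ * e * u₁⁻¹)⁻¹ by group, g3]
    exact mul_mem eE (inv_mem (mul_mem eE vE)))
  rw [← c4.eq, mul_inv_cancel_right] at g3
  exact v1 (by simpa using g3)

end Cfsg.Agent.SY
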