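import Mathlib
import Cfsg.Agent.SY.Blk

/-! SY: a minimal counterexample has no flat line all of whose planes are proper. -/

set_option autoImplicit false
set_option linter.unusedSectionVars false

namespace Cfsg.Agent.SY

open Subgroup
open scoped commutatorElement

variable {G : Type*} [Group G] [Finite G] {p : ℕ} {C B : Set G} {x y b g u v w e q : G}

namespace Mp

/-- the plane through `x, y, b` -/
def Pl (C : Set G) (x y b : G) : Set G := C ∩ (closure ({x, y, b} : Set G) : Subgroup G)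

/-- the commutator map -/
def ep (x b v : G) : G := ⁅v, x⁻¹ * b⁆

/-- `w ↦ σ⁻¹(w) w` -/
def ph (x w : G) : G := x⁻¹ * w * x * w

structure Ctx (p : ℕ) (C : Set G) (x y : G) : Prop where
  m : Min p C
  hpl : ∀ x ∈ C, ∀ y ∈ C, ∀ z ∈ C, x ≠ y → Flat C x y → closure ({x, y, z} : Set G) ≠ ⊤
  hx : x ∈ C
  hy : y ∈ C
  hxy : x ≠ y
  hf : Flat C x y

theorem cm (g u v : G) : g * (u * v) * g⁻¹ = g * u * g⁻¹ * (g * v * g⁻¹) := by group

theorem fx_of (h : Commute e q) : e * q * e⁻¹ = q := by rw [h.eq, mul_inv_cancel_right]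

theorem of_fx (h : e * q * e⁻¹ = q) : Commute e q := mul_inv_eq_iff_eq_mul.1 h

theorem cancel (h : Commute u q) (k : Commute (u * v) q) : Commute v q := by
  simpa using h.inv_left.mul_left k

theorem xP (hx : x ∈ C) : x ∈ Pl C x y b := ⟨hx, subset_closure (by simp)⟩

theorem yP (hy : y ∈ C) : y ∈ Pl C x y b := ⟨hy, subset_closure (by simp)⟩

theorem bP (hb : b ∈ C) : b ∈ Pl C x y b := ⟨hb, subset_closure (by simp)⟩

theorem lnP : Ln C x y ⊆ Pl C x y b := fun _ h =>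
  ⟨h.1, closure_mono (by intro z; simp only [Set.mem_insert_iff, Set.mem_singleton_iff]; tauto) h.2⟩

/-- An element commuting with two points of a line commutes with the group of the line. -/
theorem comm_ln (h : Sys p C) {a c : G} (ha : a ∈ C) (hc : c ∈ C) (hu : u ∈ Ln C a c) (hv : v ∈ Ln C a c)
    (huv : u ≠ v) (h1 : Commute e u) (h2 : Commute e v) (hq : q ∈ closure ({a, c} : Set G)) :
    Commute e q := by
  rw [← h.closure_eq ha hc hu hv huv] at hq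
  have : closure ({u, v} : Set G) ≤ centralizer ({e} : Set G) := (closure_le _).2 (by
    rintro _ (rfl | rfl)
    · exact mem_centralizer_singleton_iff.2 h1.eq.symm
    · exact mem_centralizer_singleton_iff.2 h2.eq.symm)
  exact (mem_centralizer_singleton_iff.1 (this hq)).symm

universe u in
theorem exists_f {G : Type u} [Group G] [Finite G] {B : Set G} (h : Sys p B) (ha : Aff B) :
    ∃ (Q : Type u) (_ : AddCommGroup Q) (f : G → Q),
    (∀ u ∈ Wg B, ∀ v ∈ Wg B, f (u * v) = f u + f v) ∧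
    (∀ u ∈ Wg B, ∀ v ∈ Wg B, f u = f v ↔ Cg B u v) ∧ ∀ u ∈ Wg B, f u + f u = 0 := by
  classical
  have hn : ((Eg B).subgroupOf (Wg B)).Normal :=
    ⟨fun n hn g => mem_subgroupOf.2 (conj_Eg (h.le_norm (Wg_le g.2)) (mem_subgroupOf.1 hn))⟩
  have key : ∀ u v : Wg B, (u : Wg B ⧸ (Eg B).subgroupOf (Wg B)) = v ↔ Cg B u v := fun u v => by
    rw [QuotientGroup.eq, mem_subgroupOf]
    exact ⟨fun k => ⟨u.2, k⟩, fun k => k.2⟩
  let _ : CommGroup (Wg B ⧸ (Eg B).subgroupOf (Wg B)) :=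
    { (inferInstance : Group (Wg B ⧸ (Eg B).subgroupOf (Wg B))) with
      mul_comm := by
        rintro ⟨u⟩ ⟨v⟩
        exact (key (u * v) (v * u)).2 (h.cg_comm ha u.2 v.2) }
  refine ⟨Additive (Wg B ⧸ (Eg B).subgroupOf (Wg B)), inferInstance,
    fun g => if k : g ∈ Wg B then Additive.ofMul ((⟨g, k⟩ : Wg B) : Wg B ⧸ _) else 0, ?_, ?_, ?_⟩
  · intro u hu v hv
    simp only [dif_pos hu, dif_pos hv, dif_pos (mul_mem hu hv)]
    rfl
  · intro u hu v hv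
    simp only [dif_pos hu, dif_pos hv]
    exact Additive.ofMul.apply_eq_iff_eq.trans (key _ _)
  · intro u hu
    simp only [dif_pos hu]
    have k := h.sq_mem ha hu
    rw [pow_two] at k
    have := (key (⟨u, hu⟩ * ⟨u, hu⟩) 1).2 (h.cg_symm ha ((h.cg_one ha).2 k))
    exact congrArg Additive.ofMul this

namespace Ctx

variable (c : Ctx p C x y)
include c

theorem sP (b : G) : Sys p (Pl C x y b) := c.m.sys.sub _

theorem aP (hb : b ∈ C) : Aff (Pl C x y b) := c.m.sub _ (c.hpl x c.hx y c.hy b hb c.hxy c.hf)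

theorem V_sq (hv : v ∈ Wg (Ln C x y)) : v * v = 1 := c.m.sys.flat_sq c.hx c.hy c.hf hv

theorem V_inv (hv : v ∈ Wg (Ln C x y)) : v⁻¹ = v := inv_eq_of_mul_eq_one_left (c.V_sq hv)

theorem V_comm (hu : u ∈ Wg (Ln C x y)) (hv : v ∈ Wg (Ln C x y)) : Commute u v :=
  c.m.sys.flat_comm c.hx c.hy c.hf hu hv

theorem x_norm : x ∈ normalizer (Ln C x y) :=
  (c.m.sys.ln x y).le_norm (subset_closure (left_mem_Ln c.hx))

theorem V_conj (hv : v ∈ Wg (Ln C x y)) : x * v * x⁻¹ ∈ Wg (Ln C x y) := conj_Wg c.x_norm hv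

theorem V_conj' (hv : v ∈ Wg (Ln C x y)) : x⁻¹ * v * x ∈ Wg (Ln C x y) := by
  simpa using conj_Wg (inv_mem c.x_norm) hv

theorem V_pow (i : ℕ) (hv : v ∈ Wg (Ln C x y)) : x ^ i * v * (x ^ i)⁻¹ ∈ Wg (Ln C x y) :=
  conj_Wg (pow_mem c.x_norm i) hv

theorem ph_mem (hv : v ∈ Wg (Ln C x y)) : ph x v ∈ Wg (Ln C x y) := mul_mem (c.V_conj' hv) hv

theorem ph_one (hv : v ∈ Wg (Ln C x y)) (h : Commute (ph x v) x) : v = 1 := by
  have k := c.m.sys.flat_eq_one c.hx c.hy c.hf (c.ph_mem hv) h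
  rw [ph, mul_eq_one_iff_eq_inv, c.V_inv hv, mul_assoc, inv_mul_eq_iff_eq_mul] at k
  exact c.m.sys.flat_eq_one c.hx c.hy c.hf hv k

theorem ph_ne (hv : v ∈ Wg (Ln C x y)) (h : v ≠ 1) : ph x v ≠ 1 :=
  fun k => h (c.ph_one hv (k ▸ Commute.one_left x))

theorem ph_surj (hv : v ∈ Wg (Ln C x y)) : ∃ u ∈ Wg (Ln C x y), ph x u = v := by
  let F : Wg (Ln C x y) → Wg (Ln C x y) := fun u => ⟨ph x u, c.ph_mem u.2⟩
  have : Function.Injective F := fun u u' k => by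
    have k' : ph x u = ph x u' := congrArg Subtype.val k
    have e1 : ph x (u * u') = ph x u * ph x u' := by
      have := (c.V_comm u.2 (c.V_conj' u'.2)).eq
      calc ph x (u * u') = x⁻¹ * u * x * (x⁻¹ * u' * x * u) * u' := by rw [ph]; group
        _ = _ := by rw [← this, ph, ph]; group
    rw [k', c.V_sq (c.ph_mem u'.2)] at e1
    have := c.ph_one (mul_mem u.2 u'.2) (e1 ▸ Commute.one_left x)
    rw [mul_eq_one_iff_eq_inv, c.V_inv u'.2] at this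
    exact Subtype.ext this
  obtain ⟨u, hu⟩ := Finite.injective_iff_surjective.1 this ⟨v, hv⟩
  exact ⟨u, u.2, congrArg Subtype.val hu⟩

section ep

variable (hb : b ∈ C) (hv : v ∈ Wg (Ln C x y))
include hb hv

theorem epE : ep x b v ∈ Eg (Pl C x y b) :=
  (c.sP b).comm_mem (c.aP hb) (Wg_mono lnP hv) (mem_Wg (xP c.hx) (bP hb))

theorem ep_sq : ep x b v * ep x b v = 1 := (c.sP b).E_sq (c.aP hb) (c.epE hb hv)

theorem ep_inv : (ep x b v)⁻¹ = ep x b v := inv_eq_of_mul_eq_one_left (c.ep_sq hb hv)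

theorem ep_x : Commute (ep x b v) x := Eg_comm (c.epE hb hv) (subset_closure (xP c.hx))

theorem ep_b : Commute (ep x b v) b := Eg_comm (c.epE hb hv) (subset_closure (bP hb))

theorem ep_V (hu : u ∈ Wg (Ln C x y)) : Commute (ep x b v) u :=
  Eg_comm (c.epE hb hv) (Wg_le (Wg_mono lnP hu))

theorem ep_bi (i : ℕ) : Commute (ep x b v) (x ^ i * b * (x ^ i)⁻¹) :=
  (((c.ep_x hb hv).pow_right i).mul_right (c.ep_b hb hv)).mul_right ((c.ep_x hb hv).pow_right i).inv_right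

theorem ep_mul (hu : u ∈ Wg (Ln C x y)) : ep x b (v * u) = ep x b v * ep x b u :=
  (c.sP b).comm_mul_left (c.aP hb) (Wg_mono lnP hv) (Wg_mono lnP hu) (mem_Wg (xP c.hx) (bP hb))

theorem conj_b : b * v * b⁻¹ = x * v * x⁻¹ * ep x b v := by
  calc b * v * b⁻¹ = x * v⁻¹ * ⁅v, x⁻¹ * b⁆ * x⁻¹ := by
        rw [commutatorElement_def, c.V_inv hv]
        calc _ = x * (v * v) * (x⁻¹ * b * v * (x⁻¹ * b)⁻¹) * x⁻¹ := by rw [c.V_sq hv]; group
          _ = _ := by group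
    _ = _ := by rw [c.V_inv hv, mul_assoc, ← ep, (c.ep_x hb hv).inv_right.eq, mul_assoc, mul_assoc, mul_assoc]

theorem conj_b' : b⁻¹ * v * b = x⁻¹ * v * x * ep x b (x⁻¹ * v * x) := by
  have k := c.conj_b hb (c.V_conj' hv)
  have l := fx_of (c.ep_b hb (c.V_conj' hv)).symm
  calc b⁻¹ * v * b = b⁻¹ * (x * (x⁻¹ * v * x) * x⁻¹ * ep x b (x⁻¹ * v * x) *
        (ep x b (x⁻¹ * v * x))⁻¹) * b := by group
    _ = _ := by
      rw [← k, c.ep_inv hb (c.V_conj' hv)]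
      conv_lhs => rw [← l]
      group

theorem ep_pow (i : ℕ) : ep x (x ^ i * b * (x ^ i)⁻¹) (x ^ i * v * (x ^ i)⁻¹) = ep x b v := by
  rw [← fx_of ((c.ep_x hb hv).pow_right i).symm, ep, ep, commutatorElement_def, commutatorElement_def]
  group

end ep

theorem star (hb : b ∈ C) (hg : g ∈ C) (hw : w ∈ Wg (Ln C x y)) (h1 : w ≠ 1) (hq : q = b ∨ q = g) :
    Commute (ep x b w * ep x g (ph x w) * (g * ep x b (x⁻¹ * w * x) * g⁻¹)) q := by
  have hw' := c.V_conj' hw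
  have hbw : w * b * w⁻¹ ∈ C := c.m.conj_mem w hb
  have ev : b⁻¹ * (w * b * w⁻¹) = ph x w * ep x b (x⁻¹ * w * x) := by
    rw [c.V_inv hw, ← mul_assoc, ← mul_assoc, c.conj_b' hb hw, mul_assoc, (c.ep_V hb hw' hw).eq, ph,
      ← mul_assoc]
  have hne : b ≠ w * b * w⁻¹ := fun k => by
    rw [← k, inv_mul_cancel, eq_comm, mul_eq_one_iff_eq_inv] at ev
    exact h1 (c.ph_one hw (ev ▸ (c.ep_x hb hw').inv_left))
  have EV : ∀ e ∈ Eg (Pl C x y b), ∀ v ∈ Wg (Ln C x y), Commute e v := fun e he v hv =>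
    Eg_comm he (Wg_le (Wg_mono lnP hv))
  have hfl : Flat C b (w * b * w⁻¹) := by
    refine c.m.sys.flat_of hb hbw ?_ fun i => ?_
    · rw [ev, (c.ep_V hb hw' (c.ph_mem hw)).symm.mul_pow, pow_two, pow_two, c.V_sq (c.ph_mem hw),
        c.ep_sq hb hw', mul_one]
    · have : ∃ v ∈ Wg (Ln C x y), ∃ e ∈ Eg (Pl C x y b),
          b ^ i * (b⁻¹ * (w * b * w⁻¹)) * (b ^ i)⁻¹ = v * e := by
        induction i with
        | zero => exact ⟨_, c.ph_mem hw, _, c.epE hb hw', by rw [ev]; simp⟩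
        | succ i ih =>
          obtain ⟨v, hv, e, he, k⟩ := ih
          refine ⟨_, c.V_conj hv, _, mul_mem (c.epE hb hv) he, ?_⟩
          rw [← mul_assoc (x * v * x⁻¹), ← c.conj_b hb hv, ← fx_of (Eg_comm he (subset_closure (bP hb))).symm, ← cm, ← k,
            pow_succ']
          group
      obtain ⟨v, hv, e, he, k⟩ := this
      rw [k, ev]
      exact ((c.V_comm (c.ph_mem hw) hv).mul_right (EV e he _ (c.ph_mem hw)).symm).mul_left
        ((c.ep_V hb hw' hv).mul_right (Eg_comm (c.epE hb hw') (Wg_le he.1)))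
  have s' : Sys p (Pl C b (w * b * w⁻¹) g) := c.m.sys.sub _
  have a' : Aff (Pl C b (w * b * w⁻¹) g) := c.m.sub _ (c.hpl b hb _ hbw g hg hne hfl)
  have k := (s'.cg_sigma a' (xP hb) (bP hg) (mem_Wg (xP hb) (yP hbw))).2
  have e1 : b * (b⁻¹ * (w * b * w⁻¹)) * b⁻¹ = x * ph x w * x⁻¹ * ep x b w := by
    calc _ = w * (b * w⁻¹ * b⁻¹) := by group
      _ = _ := by rw [c.V_inv hw, c.conj_b hb hw, ph]; group
  rw [e1, ev, cm g, c.conj_b hg (c.ph_mem hw), mul_inv_rev, c.ep_inv hb hw,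
    show ∀ a r s t : G, a * r⁻¹ * (r * s * t) = a * s * t from fun _ _ _ _ => by group] at k
  rcases hq with rfl | rfl
  exacts [Eg_comm k (subset_closure (xP hb)), Eg_comm k (subset_closure (bP hg))]

theorem star_pow (hb : b ∈ C) (hg : g ∈ C) (hu : u ∈ Wg (Ln C x y)) (h1 : u ≠ 1) (i : ℕ)
    (hq : q = x ^ i * b * (x ^ i)⁻¹ ∨ q = g) :
    Commute (ep x b u * ep x g (x ^ i * ph x u * (x ^ i)⁻¹) * (g * ep x b (x⁻¹ * u * x) * g⁻¹)) q := by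
  have k := c.star (c.m.conj_mem (x ^ i) hb) hg (c.V_pow i hu) (fun l => h1 (by simpa using l)) hq
  rwa [c.ep_pow hb hu, show ph x (x ^ i * u * (x ^ i)⁻¹) = x ^ i * ph x u * (x ^ i)⁻¹ by rw [ph, ph]; group,
    show x⁻¹ * (x ^ i * u * (x ^ i)⁻¹) * x = x ^ i * (x⁻¹ * u * x) * (x ^ i)⁻¹ by group,
    c.ep_pow hb (c.V_conj' hu)] at k

theorem J (hb : b ∈ C) (hg : g ∈ C) (hu : u ∈ Wg (Ln C x y)) :
    g * (ep x b (x⁻¹ * u * x) * g * (ep x b (x⁻¹ * u * x))⁻¹) * g⁻¹ = ep x b u * g * (ep x b u)⁻¹ ∧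
      ∀ v ∈ Wg (Ln C x y), Commute (ep x g v) (ep x b u * g * (ep x b u)⁻¹) := by
  by_cases h1 : u = 1
  · subst h1
    simp only [ep, mul_one, inv_mul_cancel, commutatorElement_one_left, one_mul, inv_one,
      mul_inv_cancel_right, true_and]
    exact fun v hv => c.ep_b hg hv
  obtain ⟨δ, hδ⟩ : ∃ δ, δ = g * (ep x b (x⁻¹ * u * x) * g * (ep x b (x⁻¹ * u * x))⁻¹) * g⁻¹ := ⟨_, rfl⟩
  have hp := c.ph_mem hu
  have s : ∀ i : ℕ, ep x g (x ^ i * ph x u * (x ^ i)⁻¹) * δ * (ep x g (x ^ i * ph x u * (x ^ i)⁻¹))⁻¹ =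
      ep x b u * g * (ep x b u)⁻¹ := fun i => by
    have k := fx_of (c.star_pow hb hg hu h1 i (.inr rfl))
    calc _ = (ep x b u)⁻¹ * (ep x b u * ep x g (x ^ i * ph x u * (x ^ i)⁻¹) *
          (g * ep x b (x⁻¹ * u * x) * g⁻¹) * g * (ep x b u * ep x g (x ^ i * ph x u * (x ^ i)⁻¹) *
          (g * ep x b (x⁻¹ * u * x) * g⁻¹))⁻¹) * ep x b u := by rw [hδ]; group
      _ = _ := by rw [k, c.ep_inv hb hu]
  let K : Subgroup G :=
    { carrier := {v | v ∈ Wg (Ln C x y) ∧ ∀ i : ℕ, Commute (ep x g (x ^ i * v * (x ^ i)⁻¹)) δ}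
      one_mem' := ⟨one_mem _, fun i => by simp [ep]⟩
      mul_mem' := fun {a a'} ha ha' => ⟨mul_mem ha.1 ha'.1, fun i => by
        rw [cm, c.ep_mul hg (c.V_pow i ha.1) (c.V_pow i ha'.1)]
        exact (ha.2 i).mul_left (ha'.2 i)⟩
      inv_mem' := fun {a} ha => by rwa [c.V_inv ha.1] }
  have hK : Wg (Ln C x y) ≤ K := by
    refine c.m.sys.flat_irr c.hx c.hy c.hf (c.V_conj (c.ph_mem hp))
      (fun l => c.ph_ne hp (c.ph_ne hu h1) (by simpa using l)) ⟨c.V_conj (c.ph_mem hp), fun i => ?_⟩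
      fun k hk => ⟨c.V_conj hk.1, fun i => ?_⟩
    · rw [show x ^ i * (x * ph x (ph x u) * x⁻¹) * (x ^ i)⁻¹ =
          x ^ i * ph x u * (x ^ i)⁻¹ * (x ^ (i + 1) * ph x u * (x ^ (i + 1))⁻¹) by
        rw [ph, pow_succ]; group, c.ep_mul hg (c.V_pow i hp) (c.V_pow _ hp)]
      refine of_fx ?_
      rw [mul_inv_rev, show ∀ a a' : G, a * a' * δ * (a'⁻¹ * a⁻¹) = a * (a' * δ * a'⁻¹) * a⁻¹ from
        fun _ _ => by group, s, ← s i]
      calc _ = (ep x g (x ^ i * ph x u * (x ^ i)⁻¹) * ep x g (x ^ i * ph x u * (x ^ i)⁻¹)) * δ *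
            (ep x g (x ^ i * ph x u * (x ^ i)⁻¹) * ep x g (x ^ i * ph x u * (x ^ i)⁻¹))⁻¹ := by group
        _ = δ := by rw [c.ep_sq hg (c.V_pow i hp)]; group
    · rw [show x ^ i * (x * k * x⁻¹) * (x ^ i)⁻¹ = x ^ (i + 1) * k * (x ^ (i + 1))⁻¹ by rw [pow_succ]; group]
      exact hk.2 _
  have e : δ = ep x b u * g * (ep x b u)⁻¹ := by rw [← s 0, fx_of ((hK hp).2 0)]
  exact ⟨hδ ▸ e, fun v hv => by simpa [← e] using (hK hv).2 0⟩

theorem exists_B (hb : b ∈ C) (hv : v ∈ Wg (Ln C x y)) (h1 : ep x b v ≠ 1) :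
    ∃ B, Blk C B ∧ Pl C x y b ⊆ B ∧ Eg (Pl C x y b) ≤ Eg B := by
  have s := c.sP b
  have a := c.aP hb
  obtain ⟨q, hq, k⟩ : ∃ q ∈ Pl C x y b, (x⁻¹ * q) ^ 2 ≠ 1 := by
    by_contra hn
    push Not at hn
    have sq : ∀ w ∈ Wg (Pl C x y b), w ^ 2 = 1 := fun w hw => by
      obtain ⟨z, hz, e, he, rfl⟩ := s.exists_pure a (xP c.hx) hw
      rw [(Eg_comm he (Wg_le (mem_Wg (xP c.hx) hz))).symm.mul_pow, hn z hz, one_mul, pow_two, s.E_sq a he]
    have h2 := Wg_mono (lnP (b := b)) hv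
    have h3 := mem_Wg (xP (y := y) (b := b) c.hx) (bP hb)
    have := s.mul_sq a h2 h3
    rw [sq _ (mul_mem h2 h3), sq _ h2, sq _ h3, one_mul, one_mul] at this
    exact h1 this.symm
  have hB : Blk C (Fx C ((x⁻¹ * q) ^ 2)) := ⟨x, c.hx, q, hq.1, k, rfl⟩
  have hs : Pl C x y b ⊆ Fx C ((x⁻¹ * q) ^ 2) := fun z hz => mem_Fx.2 ⟨hz.1, a x (xP c.hx) q hq z hz⟩
  exact ⟨_, hB, hs, c.m.blk_E_mono hB hs (xP c.hx)⟩

theorem b_ne (h1 : ep x b v ≠ 1) (hb : b ∈ C) : b ≠ x * b * x⁻¹ := fun k => by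
  have := c.m.sys.eq_of_commute c.hx hb (of_fx k.symm)
  exact h1 (by rw [ep, ← this, inv_mul_cancel, commutatorElement_one_right])

theorem x_mem (h1 : ep x b v ≠ 1) (hb : b ∈ C) : x ∈ closure ({b, x * b * x⁻¹} : Set G) := by
  have hxb : x * b * x⁻¹ ∈ Ln C x b := ⟨c.m.conj_mem x hb, mul_mem (mul_mem (left_mem_Ln (y := b) c.hx).2
    (right_mem_Ln hb).2) (inv_mem (left_mem_Ln (y := b) c.hx).2)⟩
  rw [c.m.sys.closure_eq c.hx hb (right_mem_Ln hb) hxb (c.b_ne h1 hb)]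
  exact (left_mem_Ln (y := b) c.hx).2

theorem case3 (hb : b ∈ C) (hg : g ∈ C) (hv : v ∈ Wg (Ln C x y)) (h1 : ep x b v ≠ 1)
    (h0 : ∀ u ∈ Wg (Ln C x y), ep x g u = 1) : Commute (ep x b v) g := by
  have hu := c.V_conj hv
  have u1 : x * v * x⁻¹ ≠ 1 := fun k => h1 (by rw [show v = 1 by simpa using k, ep, commutatorElement_one_left])
  have s : ∀ i : ℕ, Commute (g * ep x b v * g⁻¹) (x ^ i * b * (x ^ i)⁻¹) := fun i => by
    have k := c.star_pow hb hg hu u1 i (.inl rfl)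
    rw [h0 _ (c.V_pow i (c.ph_mem hu)), mul_one, show x⁻¹ * (x * v * x⁻¹) * x = v by group] at k
    exact cancel (c.ep_bi hb hu i) k
  have k : Commute (g * ep x b v * g⁻¹) x := by
    have : closure ({b, x * b * x⁻¹} : Set G) ≤ centralizer ({g * ep x b v * g⁻¹} : Set G) :=
      (closure_le _).2 (by
        rintro _ (rfl | rfl)
        · exact mem_centralizer_singleton_iff.2 (by simpa using (s 0).eq.symm)
        · exact mem_centralizer_singleton_iff.2 (by simpa using (s 1).eq.symm))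
    exact (mem_centralizer_singleton_iff.1 (this (c.x_mem h1 hb))).symm
  by_cases hxg : x = g
  · exact hxg ▸ c.ep_x hb hv
  have gl := (right_mem_Ln (x := x) hg).2
  refine comm_ln c.m.sys c.hx hg (left_mem_Ln c.hx) (v := g⁻¹ * x * g⁻¹⁻¹)
    ⟨c.m.conj_mem _ c.hx, mul_mem (mul_mem (inv_mem gl) (left_mem_Ln c.hx).2) (inv_mem (inv_mem gl))⟩
    (fun l => hxg (c.m.sys.eq_of_commute c.hx hg (by simpa using (of_fx l.symm).inv_left.symm)))
    (c.ep_x hb hv) ?_ gl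
  calc ep x b v * (g⁻¹ * x * g⁻¹⁻¹) = g⁻¹ * (g * ep x b v * g⁻¹ * x) * g := by group
    _ = _ := by rw [k.eq]; group

theorem case4 (hb : b ∈ C) (hg : g ∈ C) (hv : v ∈ Wg (Ln C x y)) (h1 : ep x b v ≠ 1) (hB : Blk C B)
    (hs : Pl C x y b ⊆ B) (hE : Eg (Pl C x y b) ≤ Eg B) (hw : w ∈ Wg (Ln C x y)) :
    Commute (ep x g w) b := by
  by_cases w1 : w = 1
  · rw [w1, ep, commutatorElement_one_left]; exact Commute.one_left b
  have sB := c.m.blk_sys hB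
  have aB := c.m.blk_aff hB
  have xB : x ∈ B := hs (xP c.hx)
  have bB : b ∈ B := hs (bP hb)
  have xN : x ∈ normalizer B := sB.le_norm (subset_closure xB)
  have tW : x⁻¹ * b ∈ Wg B := mem_Wg xB bB
  have nrm : ∀ u ∈ Wg (Ln C x y), ep x g u ∈ normalizer B := fun u hu => by
    have k : ep x g u * b * (ep x g u)⁻¹ ∈ B := by
      rw [← c.m.blk_fx hB (hE (c.epE hb hv)) h1]
      exact mem_Fx.2 ⟨c.m.conj_mem _ hb, (c.J hg hb hu).2 v hv⟩
    have k2 : ep x g u * ep x b v * (ep x g u)⁻¹ = ⁅v, x⁻¹ * (ep x g u * b * (ep x g u)⁻¹)⁆ := by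
      conv_rhs => rw [← fx_of (c.ep_V hg hu hv), ← fx_of (c.ep_x hg hu).inv_right]
      rw [ep.eq_1 x b, commutatorElement_def, commutatorElement_def]
      group
    have k3 := c.m.blk_eq hB (c.m.blk_conj hB (ep x g u))
      (k2 ▸ sB.comm_mem aB (Wg_mono (lnP.trans hs) hv) (mem_Wg xB k))
      (c.m.blk_conj_E (hE (c.epE hb hv)) _) (fun l => h1 (by simpa using l))
    exact mem_norm_of_conj fun z hz => by rw [k3]; exact ⟨z, hz, rfl⟩
  obtain ⟨u, hu, rfl⟩ := c.ph_surj hw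
  have u1 : u ≠ 1 := fun k => w1 (by rw [k, ph]; group)
  obtain ⟨Q, _, f, fm, fc, f2⟩ := exists_f sB aB
  have sW : ∀ a ∈ Wg B, x * a * x⁻¹ ∈ Wg B := fun a ha => conj_Wg xN ha
  have fs : ∀ a ∈ Wg B, ∀ a' ∈ Wg B, f a = f a' → f (x * a * x⁻¹) = f (x * a' * x⁻¹) :=
    fun a ha a' ha' k => (fc _ (sW a ha) _ (sW a' ha')).2 (sB.cg_conj aB xN ((fc a ha a' ha').1 k))
  have f0 : ∀ a ∈ Wg B, f a = 0 ↔ a ∈ Eg B := fun a ha => by
    have k1 : f 1 = 0 := by rw [← f2 1 (one_mem _), ← fm 1 (one_mem _) 1 (one_mem _), mul_one]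
    rw [← k1, eq_comm, fc _ (one_mem _) a ha, sB.cg_one aB]
  have fi : ∀ a ∈ Wg B, f (x * a * x⁻¹) = f a → f a = 0 := fun a ha k =>
    (f0 a ha).2 (sB.mem_E_of_cg aB xB ((fc _ (sW a ha) a ha).1 k))
  -- `n a`
  obtain ⟨n, hn⟩ : ∃ n : G → G, ∀ a, n a = ep x g a * (x⁻¹ * b) * (ep x g a)⁻¹ * (x⁻¹ * b)⁻¹ :=
    ⟨_, fun _ => rfl⟩
  have nW : ∀ a ∈ Wg (Ln C x y), n a ∈ Wg B := fun a ha =>
    hn a ▸ mul_mem (conj_Wg (nrm a ha) tW) (inv_mem tW)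
  have nt : ∀ a ∈ Wg (Ln C x y), n a * (x⁻¹ * b) = x⁻¹ * (ep x g a * b * (ep x g a)⁻¹) := fun a ha => by
    rw [hn, inv_mul_cancel_right, ← mul_assoc, (c.ep_x hg ha).inv_right.eq]
    group
  have ns : ∀ a ∈ Wg (Ln C x y), f (n (x * a * x⁻¹)) = f (x * n a * x⁻¹) := fun a ha => by
    have k := (c.J hg hb (c.V_conj ha)).1
    rw [show x⁻¹ * (x * a * x⁻¹) * x = a by group] at k
    have k2 : n (x * a * x⁻¹) * (x⁻¹ * b) = x⁻¹ * b * (x * n a * x⁻¹) := by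
      rw [nt _ (c.V_conj ha), ← k, eq_mul_inv_of_mul_eq (nt a ha)]
      group
    have := congrArg f k2
    rw [fm _ (nW _ (c.V_conj ha)) _ tW, fm _ tW _ (sW _ (nW a ha)), add_comm] at this
    exact add_left_cancel this
  obtain ⟨ρ, hρ⟩ : ∃ ρ, ρ = g * ep x b (x⁻¹ * u * x) * g⁻¹ := ⟨_, rfl⟩
  have r1 : ∀ i : ℕ, ρ * (x ^ i * b * (x ^ i)⁻¹) * ρ⁻¹ = ep x g (x ^ i * ph x u * (x ^ i)⁻¹) *
      (x ^ i * b * (x ^ i)⁻¹) * (ep x g (x ^ i * ph x u * (x ^ i)⁻¹))⁻¹ := fun i => by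
    have k := fx_of (c.star_pow hb hg hu u1 i (.inl rfl))
    have l := fx_of (c.ep_bi hb hu i).inv_left
    rw [← hρ] at k
    calc _ = (ep x g (x ^ i * ph x u * (x ^ i)⁻¹))⁻¹ * ((ep x b u)⁻¹ * (ep x b u *
          ep x g (x ^ i * ph x u * (x ^ i)⁻¹) * ρ * (x ^ i * b * (x ^ i)⁻¹) * (ep x b u *
          ep x g (x ^ i * ph x u * (x ^ i)⁻¹) * ρ)⁻¹) * (ep x b u)⁻¹⁻¹) *
          ep x g (x ^ i * ph x u * (x ^ i)⁻¹) := by group
      _ = _ := by rw [k, l, c.ep_inv hg (c.V_pow i hw)]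
  have r2 : ∀ i : ℕ, ρ * (x ^ i * b * (x ^ i)⁻¹) * ρ⁻¹ ∈ B := fun i =>
    r1 i ▸ conj_C (nrm _ (c.V_pow i hw)) (conj_C (pow_mem xN i) bB)
  have sB' : ρ * x * ρ⁻¹ ∈ B := by
    refine c.m.blk_closure hB (c.m.conj_mem ρ c.hx) ?_
    have : closure ({b, x * b * x⁻¹} : Set G) ≤ (closure B).comap (MulAut.conj ρ).toMonoidHom :=
      (closure_le _).2 (by
        rintro _ (rfl | rfl)
        · exact subset_closure (by simpa using r2 0)
        · exact subset_closure (by simpa using r2 1))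
    exact this (c.x_mem h1 hb)
  have aW := mem_Wg xB sB'
  obtain ⟨M, hM⟩ : ∃ M : ℕ → G, ∀ i, M i = x ^ i * n (x ^ i * ph x u * (x ^ i)⁻¹) * (x ^ i)⁻¹ :=
    ⟨_, fun _ => rfl⟩
  have MW : ∀ i, M i ∈ Wg B := fun i => hM i ▸ conj_Wg (pow_mem xN i) (nW _ (c.V_pow i hw))
  have TW : ∀ i : ℕ, x ^ i * (x⁻¹ * b) * (x ^ i)⁻¹ ∈ Wg B := fun i => conj_Wg (pow_mem xN i) tW
  have D : ∀ i : ℕ, x⁻¹ * (ρ * (x ^ i * b * (x ^ i)⁻¹) * ρ⁻¹) = M i * (x ^ i * (x⁻¹ * b) * (x ^ i)⁻¹) :=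
    fun i => by
      have l := fx_of ((c.ep_x hg (c.V_pow i hw)).pow_right i).symm
      rw [r1, hM, ← cm, nt _ (c.V_pow i hw)]
      conv_lhs => rw [← l]
      group
  have Ms : ∀ i, f (M (i + 1)) = f (x * (x * M i * x⁻¹) * x⁻¹) := fun i => by
    have k := ns _ (c.V_pow i hw)
    have h2 := nW _ (c.V_pow i hw)
    rw [show x * (x ^ i * ph x u * (x ^ i)⁻¹) * x⁻¹ = x ^ (i + 1) * ph x u * (x ^ (i + 1))⁻¹ by
      rw [pow_succ']; group] at k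
    have := sB.cg_conj aB (pow_mem xN (i + 1)) ((fc _ (nW _ (c.V_pow _ hw)) _ (sW _ h2)).1 k)
    rw [← hM, show x ^ (i + 1) * (x * n (x ^ i * ph x u * (x ^ i)⁻¹) * x⁻¹) * (x ^ (i + 1))⁻¹ =
      x * (x * M i * x⁻¹) * x⁻¹ by rw [hM, pow_succ']; group] at this
    exact (fc _ (MW _) _ (sW _ (sW _ (MW i)))).2 this
  have R : ∀ i, f (x * (x * M i * x⁻¹) * x⁻¹ * (x * M i * x⁻¹)) =
      f (x⁻¹ * (ρ * x * ρ⁻¹)) + f (x * (x⁻¹ * (ρ * x * ρ⁻¹))⁻¹ * x⁻¹) := fun i => by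
    have k : M (i + 1) * (x * (x ^ i * (x⁻¹ * b) * (x ^ i)⁻¹) * x⁻¹) = x⁻¹ * (ρ * x * ρ⁻¹) *
        (x * M i * x⁻¹ * (x * (x ^ i * (x⁻¹ * b) * (x ^ i)⁻¹) * x⁻¹) *
          (x * (x⁻¹ * (ρ * x * ρ⁻¹))⁻¹ * x⁻¹)) := by
      rw [← cm, ← D i, show x * (x ^ i * (x⁻¹ * b) * (x ^ i)⁻¹) * x⁻¹ =
        x ^ (i + 1) * (x⁻¹ * b) * (x ^ (i + 1))⁻¹ by rw [pow_succ']; group, ← D, pow_succ']
      group
    have := congrArg f k
    have m1 := sW _ (MW i)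
    have m2 := sW _ (TW i)
    have m3 := sW _ (inv_mem aW)
    rw [fm _ (MW _) _ m2, fm _ aW _ (mul_mem (mul_mem m1 m2) m3), fm _ (mul_mem m1 m2) _ m3, fm _ m1 _ m2,
      Ms] at this
    rw [fm _ (sW _ m1) _ m1]
    linear_combination (norm := abel1) this + f2 _ m1
  have m0 := MW 0
  have m1 := sW _ m0
  have m2 := sW _ m1
  obtain ⟨k, hk⟩ : ∃ k, k = x * (x * M 0 * x⁻¹) * x⁻¹ * (x * M 0 * x⁻¹) := ⟨_, rfl⟩
  have kW : k ∈ Wg B := hk ▸ mul_mem m2 m1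
  have e1 : f (x * (x * k * x⁻¹) * x⁻¹) = f k := by
    have a1 := fs _ (MW 1) _ m2 (Ms 0)
    have a2 := fs _ (sW _ (MW 1)) _ (sW _ m2) a1
    rw [hk, R 0, ← R 1, cm x (x * (x * M 0 * x⁻¹) * x⁻¹), cm x (x * (x * (x * M 0 * x⁻¹) * x⁻¹) * x⁻¹),
      fm _ (sW _ (sW _ m2)) _ (sW _ m2), fm _ (sW _ (sW _ (MW 1))) _ (sW _ (MW 1)), a1, a2]
  have e2 : f (x * k * x⁻¹ * k) = 0 := fi _ (mul_mem (sW _ kW) kW) (by
    rw [cm x (x * k * x⁻¹), fm _ (sW _ (sW _ kW)) _ (sW _ kW), fm _ (sW _ kW) _ kW, e1, add_comm])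
  have e3 : f k = 0 := fi _ kW (by
    rw [fm _ (sW _ kW) _ kW] at e2
    linear_combination (norm := abel1) e2 - f2 _ kW)
  have e4 : f (x * M 0 * x⁻¹) = 0 := fi _ m1 (by
    rw [hk, fm _ m2 _ m1] at e3
    linear_combination (norm := abel1) e3 - f2 _ m1)
  have e5 : n (ph x u) ∈ Eg B := by
    have := conj_Eg (inv_mem xN) ((f0 _ m1).1 e4)
    rwa [hM, show x⁻¹ * (x * (x ^ 0 * n (x ^ 0 * ph x u * (x ^ 0)⁻¹) * (x ^ 0)⁻¹) * x⁻¹) * x⁻¹⁻¹ =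
      n (ph x u) by simp [mul_assoc]] at this
  have b' := conj_C (nrm _ hw) bB
  refine of_fx (sB.eq_of_cg aB xB b' bB ((fc _ (mem_Wg xB b') _ tW).1 ?_))
  rw [← nt _ hw, fm _ (nW _ hw) _ tW, (f0 _ (nW _ hw)).2 e5, zero_add]

theorem false : False := by
  by_cases h0 : ∀ b ∈ C, ∀ v ∈ Wg (Ln C x y), ep x b v = 1
  · have hn : closure C ≤ normalizer (Wg (Ln C x y) : Set G) := (closure_le _).2 fun b hb =>
      mem_norm_of_conj fun v hv => by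
        rw [c.conj_b hb hv, h0 b hb v hv, mul_one]
        exact c.V_conj hv
    rw [c.m.gen, top_le_iff, normalizer_eq_top_iff] at hn
    have := c.m.otwo _ hn ((c.m.sys.ln x y).isPGroup (c.m.sys.aff_ln c.hx c.hy))
    have k := mem_Wg (left_mem_Ln (y := y) c.hx) (right_mem_Ln c.hy)
    rw [this, mem_bot, inv_mul_eq_one] at k
    exact c.hxy k
  push Not at h0
  obtain ⟨b, hb, v, hv, h1⟩ := h0
  obtain ⟨B, hB, hs, hE⟩ := c.exists_B hb hv h1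
  obtain ⟨g, hg, gB⟩ := c.m.blk_exists_notMem hB
  have eB := c.m.blk_fx hB (hE (c.epE hb hv)) h1
  by_cases h2 : ∀ u ∈ Wg (Ln C x y), ep x g u = 1
  · exact gB (eB ▸ mem_Fx.2 ⟨hg, c.case3 hb hg hv h1 h2⟩)
  push Not at h2
  obtain ⟨w, hw, h3⟩ := h2
  obtain ⟨B', hB', hs', hE'⟩ := c.exists_B hg hw h3
  have bB' : b ∈ B' := by
    rw [← c.m.blk_fx hB' (hE' (c.epE hg hw)) h3]
    exact mem_Fx.2 ⟨hb, c.case4 hb hg hv h1 hB hs hE hw⟩
  have := c.m.blk_eq hB hB' (hE (c.epE hb hv)) ((c.m.blk_sys hB').comm_mem (c.m.blk_aff hB')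
    (Wg_mono (lnP.trans hs') hv) (mem_Wg (hs' (xP c.hx)) bB')) h1
  exact gB (this ▸ hs' (bP hg))

end Ctx

end Mp

theorem Min.mp_false (m : Min p C)
    (hpl : ∀ x ∈ C, ∀ y ∈ C, ∀ z ∈ C, x ≠ y → Flat C x y → closure ({x, y, z} : Set G) ≠ ⊤)
    (hx : x ∈ C) (hy : y ∈ C) (hxy : x ≠ y) (hf : Flat C x y) : False :=
  Mp.Ctx.false ⟨m, hpl, hx, hy, hxy, hf⟩

end Cfsg.Agent.SY
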