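import Mathlib
import Cfsg.Agent.SY.Aff

/-! SY: images, quotients and restrictions of systems. -/

set_option autoImplicit false

namespace Cfsg.Agent.SY

open Subgroup
open scoped commutatorElement

variable {G H : Type*} [Group G] [Group H] {p : ℕ} {C : Set G}

theorem Wg_image (φ : G →* H) (C : Set G) : Wg (φ '' C) = (Wg C).map φ := by
  rw [Wg, Wg, MonoidHom.map_closure]
  congr 1
  ext g
  constructor
  · rintro ⟨_, ⟨x, hx, rfl⟩, _, ⟨y, hy, rfl⟩, rfl⟩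
    exact ⟨_, ⟨x, hx, y, hy, rfl⟩, by simp⟩
  · rintro ⟨_, ⟨x, hx, y, hy, rfl⟩, rfl⟩
    exact ⟨_, ⟨x, hx, rfl⟩, _, ⟨y, hy, rfl⟩, by simp⟩

theorem Quot.map_pair (φ : G →* H) (x y : G) : (closure ({x, y} : Set G)).map φ = closure {φ x, φ y} := by
  rw [MonoidHom.map_closure, Set.image_pair]

theorem Quot.mul_pow_pow {U : Subgroup G} {x w : G} (hn : ∀ u ∈ U, x * u * x⁻¹ ∈ U) (hw : w ∈ U) (j n : ℕ) :
    ∃ w' ∈ U, (w * x ^ j) ^ n = w' * x ^ (j * n) := by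
  have h1 : ∀ i : ℕ, ∀ u ∈ U, x ^ i * u * (x ^ i)⁻¹ ∈ U := fun i => by
    induction i with
    | zero => simp
    | succ i ih => intro u hu; simpa [pow_succ', mul_assoc] using hn _ (ih u hu)
  induction n with
  | zero => exact ⟨1, one_mem _, by simp⟩
  | succ n ih =>
    obtain ⟨w', h, e⟩ := ih
    exact ⟨_, mul_mem h (h1 (j * n) w hw), by rw [pow_succ, e, mul_add, mul_one, pow_add]; group⟩

theorem Quot.eq_one {a : H} {p : ℕ} (hp : Odd p) (h1 : a ^ p = 1) {n : ℕ} (h2 : a ^ 2 ^ n = 1) : a = 1 :=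
  orderOf_eq_one_iff.1 (Nat.eq_one_of_dvd_coprimes (Nat.Coprime.pow_right n hp.coprime_two_right)
    (orderOf_dvd_of_pow_eq_one h1) (orderOf_dvd_of_pow_eq_one h2))

theorem Sys.exists_lift [Finite G] (h : Sys p C) (φ : G →* H) {x y u : G} (hx : x ∈ C) (hy : y ∈ C) (hu : u ∈ C)
    (hm : φ u ∈ closure ({φ x, φ y} : Set H)) : ∃ z ∈ Ln C x y, φ z = φ u := by
  have hL := h.ln x y
  have ha := h.aff_ln hx hy
  have xL : x ∈ Ln C x y := left_mem_Ln hx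
  have hp := h.prime.odd_of_ne_two h.ne_two
  have xp := h.pow_p hx
  rw [← Quot.map_pair, ← h.closure_ln hx hy] at hm
  obtain ⟨g, hg, e⟩ := hm
  obtain ⟨w, hw, i, rfl⟩ := hL.exists_mul_pow xL (mul_mem (inv_mem (subset_closure xL)) hg)
    |>.imp fun w => And.imp_right (Exists.imp fun i e => (eq_mul_of_inv_mul_eq e : g = x * (w * x ^ i)))
  have hn : ∀ u ∈ Wg (Ln C x y), x * u * x⁻¹ ∈ Wg (Ln C x y) := fun u hu =>
    conj_Wg (hL.le_norm (subset_closure xL)) hu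
  obtain ⟨w', hw', e'⟩ := Quot.mul_pow_pow hn hw i 4
  have e1 : φ (w * x ^ i) = φ (x⁻¹ * u) := by rw [map_mul φ x⁻¹, ← e, map_mul φ x, map_inv, inv_mul_cancel_left]
  have e2 : φ (x ^ (i * 4)) = (φ w')⁻¹ := by
    rw [eq_inv_iff_mul_eq_one, mul_eq_one_comm, ← map_mul, ← e', map_pow, e1, ← map_pow, h.four x hx u hu, map_one]
  have e3 : φ (x ^ i) = 1 := Quot.eq_one hp (by rw [← map_pow, ← pow_mul, mul_comm, pow_mul, xp, one_pow, map_one])
    (n := 4) (by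
      rw [show 2 ^ 4 = 4 * 4 from rfl, pow_mul, ← map_pow φ _ 4, ← pow_mul x, e2, inv_pow, ← map_pow,
        hL.pow_four ha hw', map_one, inv_one])
  obtain ⟨z, hz, c, hc, rfl⟩ := hL.exists_pure ha xL hw
  have e4 : φ u = φ z * φ c := by rw [← e, map_mul, map_mul, e3, mul_one, ← map_mul, ← map_mul]; congr 1; group
  have c1 : Commute (φ z) (φ c) := ((mem_Eg.1 hc).2 z hz).symm.map φ
  have e5 : φ c = 1 := Quot.eq_one hp (by
    have := congrArg φ (h.pow_p hu)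
    rwa [map_pow, e4, c1.mul_pow, ← map_pow, h.pow_p hz.1, map_one, one_mul] at this) (n := 1)
    (by rw [pow_one, pow_two, ← map_mul, hL.E_sq ha hc, map_one])
  exact ⟨z, hz, by rw [e4, e5, mul_one]⟩

theorem Sys.map [Finite G] (h : Sys p C) (φ : G →* H) (h1 : ∀ x ∈ C, φ x ≠ 1) :
    Sys p (φ '' C) := by
  have := Fact.mk h.prime
  refine ⟨h.prime, h.ne_two, ?_, ?_, ?_, ?_, ?_⟩
  · rintro _ ⟨x, hx, rfl⟩
    exact orderOf_eq_prime (by rw [← map_pow, h.pow_p hx, map_one]) (h1 x hx)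
  · rintro _ ⟨x, hx, rfl⟩ _ ⟨y, hy, rfl⟩
    exact ⟨_, h.conj x hx y hy, by simp⟩
  · rintro _ ⟨x, hx, rfl⟩ _ ⟨y, hy, rfl⟩
    simpa using (h.sq x hx y hy).map φ
  · rintro _ ⟨x, hx, rfl⟩ _ ⟨y, hy, rfl⟩
    simpa using congrArg φ (h.four x hx y hy)
  · rintro _ ⟨x, hx, rfl⟩ _ ⟨y, hy, rfl⟩ - _ ⟨u, hu, rfl⟩ _ ⟨v, hv, rfl⟩ huv mu mv
    obtain ⟨u', hu', e1⟩ := h.exists_lift φ hx hy hu mu
    obtain ⟨v', hv', e2⟩ := h.exists_lift φ hx hy hv mv
    rw [← e1, ← e2, ← Quot.map_pair, ← Quot.map_pair,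
      h.closure_eq hx hy hu' hv' fun e => huv (by rw [← e1, e, e2])]

theorem Sys.quot [Finite G] (h : Sys p C) (N : Subgroup G) [N.Normal] (hN : IsPGroup 2 N) :
    Sys p (QuotientGroup.mk' N '' C) :=
  h.map _ fun x hx e => by
    obtain ⟨n, hn⟩ := hN ⟨x, (QuotientGroup.eq_one_iff x).1 e⟩
    exact h.ne_one hx (Quot.eq_one (h.prime.odd_of_ne_two h.ne_two) (h.pow_p hx) (congrArg Subtype.val hn))

theorem Sys.comap (h : Sys p C) (K : Subgroup G) : Sys p (K.subtype ⁻¹' C) := by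
  refine ⟨h.prime, h.ne_two, fun x hx => by rw [← orderOf_coe]; exact h.ord x hx, fun x hx y hy => h.conj x hx y hy,
    fun x hx y hy => Subtype.ext (h.sq x hx y hy), fun x hx y hy => Subtype.ext (h.four x hx y hy),
    fun x hx y hy hxy u hu v hv huv mu mv => ?_⟩
  rw [← map_le_map_iff_of_injective K.subtype_injective, Quot.map_pair, Quot.map_pair]
  exact h.line x hx y hy (fun e => hxy (Subtype.ext e)) u hu v hv (fun e => huv (Subtype.ext e))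
    (Quot.map_pair K.subtype x y ▸ mem_map_of_mem _ mu) (Quot.map_pair K.subtype x y ▸ mem_map_of_mem _ mv)

theorem Aff.of_comap {K : Subgroup G} (h : Aff (K.subtype ⁻¹' C)) : Aff (C ∩ K) := fun x hx y hy z hz =>
  congrArg Subtype.val (h ⟨x, hx.2⟩ hx.1 ⟨y, hy.2⟩ hy.1 ⟨z, hz.2⟩ hz.1)

/-- reduction modulo the centre -/
theorem Sys.aff_of_center [Finite G] (h : Sys p C) (hg : closure C = ⊤)
    (hq : Sys p (QuotientGroup.mk' (center G) '' C) → Aff (QuotientGroup.mk' (center G) '' C)) :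
    Aff C := by
  intro x hx y hy z hz
  by_cases hc : ∃ c ∈ C, c ∈ center G
  · obtain ⟨c, h1, h2⟩ := hc
    rw [h.eq_of_commute hx h1 (mem_center_iff.1 h2 x), h.eq_of_commute hy h1 (mem_center_iff.1 h2 y)]
    simp
  have ha := hq (h.map _ fun c h1 e => hc ⟨c, h1, (QuotientGroup.eq_one_iff c).1 e⟩)
  obtain ⟨ζ, hζ⟩ : ∃ ζ, ζ = (x⁻¹ * y) ^ 2 := ⟨_, rfl⟩
  have h1 : ∀ g, ζ * g * ζ⁻¹ * g⁻¹ ∈ center G := fun g => by
    have h2 : closure C ≤ (centralizer {QuotientGroup.mk' (center G) ζ}).comap (QuotientGroup.mk' (center G)) :=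
      (closure_le _).2 fun c h3 => mem_centralizer_singleton_iff.2 (by
        simpa [hζ] using (ha _ ⟨x, hx, rfl⟩ _ ⟨y, hy, rfl⟩ _ ⟨c, h3, rfl⟩).symm.eq)
    have h3 := mem_centralizer_singleton_iff.1 (h2 (hg ▸ mem_top g))
    rw [← QuotientGroup.eq_one_iff, ← QuotientGroup.mk'_apply, map_mul, map_mul, map_mul, ← h3, map_inv, map_inv]
    group
  obtain ⟨w, -, rfl⟩ := (h.ln x z).exists_conj (h.aff_ln hx hz) (left_mem_Ln hx) (right_mem_Ln hz)
  have h2 : ζ * x = x * ζ := hζ ▸ h.sq x hx y hy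
  obtain ⟨c, hc'⟩ : ∃ c, c = ζ * w * ζ⁻¹ * w⁻¹ := ⟨_, rfl⟩
  have h3 := mem_center_iff.1 (hc' ▸ h1 w) (w * x * w⁻¹)
  rw [← hζ]
  refine mul_inv_eq_iff_eq_mul.1 ?_
  calc ζ * (w * x * w⁻¹) * ζ⁻¹ = c * w * (ζ * x * ζ⁻¹) * w⁻¹ * c⁻¹ := by rw [hc']; group
    _ = c * (w * x * w⁻¹) * c⁻¹ := by rw [h2]; group
    _ = _ := by rw [← h3, mul_inv_cancel_right]

/-- if the system is affine modulo a normal 2-subgroup then `Wg C` is a 2-group -/
theorem Sys.isPGroup_of_quot [Finite G] (h : Sys p C) (N : Subgroup G) [N.Normal]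
    (hN : IsPGroup 2 N) (ha : Aff (QuotientGroup.mk' N '' C)) : IsPGroup 2 (Wg C) := by
  have h1 := (h.quot N hN).isPGroup ha
  rw [Wg_image] at h1
  exact (h1.comap_of_ker_isPGroup _ (by rwa [QuotientGroup.ker_mk'])).to_le (le_comap_map _ _)

end Cfsg.Agent.SY
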