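import Mathlib
import Cfsg.Agent.SY.Quot

/-! The case where the translation group is a 2-group: commutator calculus in class three. -/

set_option autoImplicit false
set_option linter.unusedSectionVars false

namespace Cfsg.Agent.SY

open Subgroup
open scoped commutatorElement

namespace NilC

/-- The abstract situation: `H` is the translation group and `τ` the action of a point. -/
structure St {H : Type*} [Group H] (τ : H ≃* H) (N E : Subgroup H) : Prop where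
  cN : ∀ n ∈ N, n ∈ center H
  sqN : ∀ n ∈ N, n * n = 1
  tN : ∀ n ∈ N, τ n ∈ N
  fix : ∀ n ∈ N, τ n = n → n = 1
  le : N ≤ E
  comm : ∀ u v : H, ⁅u, v⁆ ∈ E
  cen : ∀ e ∈ E, ∀ w : H, ⁅e, w⁆ ∈ N
  tau : ∀ e ∈ E, τ e * e⁻¹ ∈ N
  sqE : ∀ e ∈ E, e * e ∈ N
  pure : ∀ w, ∃ w', ∃ e ∈ E, w = τ w' * w'⁻¹ * e
  sq : ∀ w, τ ((τ w * w⁻¹) ^ 2) = (τ w * w⁻¹) ^ 2
  odd : ∀ g, τ (τ g) = g → τ g = g

namespace St

variable {H : Type*} [Group H] [Finite H] {τ : H ≃* H} {N E : Subgroup H} (h : St τ N E) {e e' n u v b : H}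
include h

omit [Finite H] in
theorem cm (hn : n ∈ N) (w : H) : Commute n w := (mem_center_iff.1 (h.cN n hn) w).symm

theorem exp (he : e ∈ E) : e * e = 1 := by
  let f : N → N := fun n => ⟨τ n * n, mul_mem (h.tN _ n.2) n.2⟩
  have inj : Function.Injective f := fun n m k => by
    have k' : τ n * n = τ m * m := congrArg Subtype.val k
    refine Subtype.ext (inv_mul_eq_one.1 (h.fix _ (mul_mem (inv_mem n.2) m.2) ?_))
    rw [map_mul, map_inv, inv_mul_eq_iff_eq_mul, inv_eq_of_mul_eq_one_right (h.sqN _ n.2), ← mul_assoc, k', mul_assoc,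
      h.sqN _ m.2, mul_one]
  obtain ⟨n, hn⟩ := Finite.surjective_of_injective inj ⟨_, h.tau e he⟩
  have h1 : τ n * n = τ e * e⁻¹ := congrArg Subtype.val hn
  have h2 : τ (n * e) = n * e := by
    rw [map_mul, ← inv_mul_cancel_right (τ e) e, ← h1, ← mul_assoc, ← mul_assoc, ← map_mul, h.sqN _ n.2, map_one,
      one_mul]
  have h3 := h.fix _ (h.sqE _ (mul_mem (h.le n.2) he)) (by rw [map_mul, h2])
  rwa [mul_assoc, ← mul_assoc e, ← (h.cm n.2 e).eq, ← mul_assoc, ← mul_assoc, h.sqN _ n.2, one_mul] at h3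

theorem inv (he : e ∈ E) : e⁻¹ = e := inv_eq_of_mul_eq_one_right (h.exp he)

theorem ab (he : e ∈ E) (he' : e' ∈ E) : Commute e e' := by
  have := h.inv (mul_mem he he')
  rw [mul_inv_rev, h.inv he, h.inv he'] at this
  exact this.symm

omit [Finite H] in
theorem pr_left (he' : e' ∈ E) (e b : H) : ⁅e * e', b⁆ = ⁅e, b⁆ * ⁅e', b⁆ := by
  calc _ = e * ⁅e', b⁆ * e⁻¹ * ⁅e, b⁆ := by simp only [commutatorElement_def]; group
    _ = _ := by rw [← (h.cm (h.cen _ he' b) e).eq, mul_inv_cancel_right, (h.cm (h.cen _ he' b) _).eq]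

omit [Finite H] in
theorem pr_right (he : e ∈ E) (b b' : H) : ⁅e, b * b'⁆ = ⁅e, b⁆ * ⁅e, b'⁆ := by
  calc _ = ⁅e, b⁆ * (b * ⁅e, b'⁆ * b⁻¹) := by simp only [commutatorElement_def]; group
    _ = _ := by rw [← (h.cm (h.cen _ he b') b).eq, mul_inv_cancel_right]

omit [Finite H] in
theorem pr_N (hn : n ∈ N) (b : H) : ⁅n, b⁆ = 1 := commutatorElement_eq_one_iff_commute.2 (h.cm hn b)

theorem pr_symm (u v : H) : ⁅u, v⁆ = ⁅v, u⁆ := by rw [← commutatorElement_inv, h.inv (h.comm v u)]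

theorem conj (he : e ∈ E) (y : H) : y * e * y⁻¹ = e * ⁅e, y⁆ := by
  rw [← (h.cm (h.cen _ he y) e).eq, h.pr_symm, commutatorElement_def, inv_mul_cancel_right]

/-- The triple commutator. -/
def S (u v b : H) : center H := ⟨⁅⁅u, v⁆, b⁆, h.cN _ (h.cen _ (h.comm u v) b)⟩

omit [Finite H] in
theorem S_mem (u v b : H) : (h.S u v b : H) ∈ N := h.cen _ (h.comm u v) b

omit [Finite H] in
theorem S_sq (u v b : H) : h.S u v b * h.S u v b = 1 := Subtype.ext (h.sqN _ (h.S_mem u v b))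

omit [Finite H] in
theorem S3 (u v b b' : H) : h.S u v (b * b') = h.S u v b * h.S u v b' := Subtype.ext (h.pr_right (h.comm u v) b b')

theorem S_symm (u v b : H) : h.S u v b = h.S v u b := Subtype.ext (congrArg (⁅·, b⁆) (h.pr_symm u v))

theorem comm_mul (u v v' : H) : ⁅u, v * v'⁆ = ⁅u, v⁆ * ⁅u, v'⁆ * h.S u v' v := by
  calc _ = ⁅u, v⁆ * (v * ⁅u, v'⁆ * v⁻¹) := by simp only [commutatorElement_def]; group
    _ = _ := by rw [h.conj (h.comm u v'), ← mul_assoc]; rfl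

theorem S2 (u v v' b : H) : h.S u (v * v') b = h.S u v b * h.S u v' b := Subtype.ext (by
  change ⁅⁅u, v * v'⁆, b⁆ = ⁅⁅u, v⁆, b⁆ * ⁅⁅u, v'⁆, b⁆
  rw [h.comm_mul, h.pr_left (h.le (h.S_mem _ _ _)), h.pr_N (h.S_mem _ _ _), mul_one, h.pr_left (h.comm u v')])

theorem S1 (u u' v b : H) : h.S (u * u') v b = h.S u v b * h.S u' v b := by
  rw [h.S_symm, h.S2, h.S_symm v, h.S_symm v]

theorem E1 (he : e ∈ E) (v b : H) : h.S e v b = 1 := Subtype.ext (h.pr_N (h.cen _ he v) b)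

theorem E2 (he : e ∈ E) (v b : H) : h.S v e b = 1 := by rw [h.S_symm, h.E1 he]

theorem E3 (he : e ∈ E) (u v : H) : h.S u v e = 1 :=
  Subtype.ext (commutatorElement_eq_one_iff_commute.2 (h.ab (h.comm u v) he))

theorem I1 (u v b : H) : h.S u⁻¹ v b = h.S u v b :=
  mul_right_cancel (b := h.S u v b) (by rw [← h.S1, inv_mul_cancel, h.E1 (one_mem _), h.S_sq])

theorem I3 (u v b : H) : h.S u v b⁻¹ = h.S u v b :=
  mul_right_cancel (b := h.S u v b) (by rw [← h.S3, inv_mul_cancel, h.E3 (one_mem _), h.S_sq])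

theorem C3 (u v y b : H) : h.S u v (y * b * y⁻¹) = h.S u v b := by
  rw [h.S3, h.S3, h.I3]
  calc _ = h.S u v y * h.S u v y * h.S u v b := by ac_rfl
    _ = _ := by rw [h.S_sq, one_mul]

theorem jacobi (u v c : H) : h.S u v c * h.S v c u * h.S c u v = 1 := by
  rw [← h.C3 u v v, ← h.C3 v c c, ← h.C3 c u u]
  refine Subtype.ext ?_
  simp only [S, commutatorElement_def, MulMemClass.mk_mul_mk, OneMemClass.coe_one]
  group

omit [Finite H] in
theorem T12 (u v b : H) : h.S (τ u) (τ v) b = h.S u v b := Subtype.ext (by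
  change ⁅⁅τ u, τ v⁆, b⁆ = ⁅⁅u, v⁆, b⁆
  rw [← map_commutatorElement, ← inv_mul_cancel_right (τ ⁅u, v⁆) ⁅u, v⁆, h.pr_left (h.comm u v),
    h.pr_N (h.tau _ (h.comm u v)), one_mul])

omit [Finite H] in
theorem T123 (u v b : H) : (h.S (τ u) (τ v) (τ b) : H) = τ (h.S u v b) := by
  simp only [S, map_commutatorElement]

omit [Finite H] in
theorem tE (he : e ∈ E) : τ e ∈ E := by simpa using mul_mem (h.le (h.tau e he)) he

omit h [Finite H] in
theorem pure_mul (w w' : H) :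
    τ (w * w') * (w * w')⁻¹ = τ w * w⁻¹ * (τ w' * w'⁻¹) * ⁅(τ w' * w'⁻¹)⁻¹, w⁆ := by
  simp only [map_mul, commutatorElement_def]; group

/-- The relation coming from the square of a product of two pure elements. -/
theorem rel1 (w w' : H) {a b : H} (ha : a = τ w * w⁻¹) (hb : b = τ w' * w'⁻¹) :
    ⁅a⁻¹, b⁆ * h.S b w (a * b) ∈ τ.toMonoidHom.eqLocus (MonoidHom.id H) := by
  have k : ∀ w, (τ w * w⁻¹) ^ 2 ∈ τ.toMonoidHom.eqLocus (MonoidHom.id H) := h.sq
  have k1 := mul_mem (mul_mem (inv_mem (k w)) (k (w * w'))) (inv_mem (k w'))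
  rw [pure_mul, ← ha, ← hb] at k1
  convert k1 using 1
  rw [← h.I1]
  have g2 := h.exp (h.comm b⁻¹ w)
  have c := h.cm (h.S_mem b⁻¹ w (a * b))
  have e : ⁅b⁻¹, w⁆ * (a * b) = h.S b⁻¹ w (a * b) * (a * b) * ⁅b⁻¹, w⁆ := by
    simp only [S, commutatorElement_def ⁅b⁻¹, w⁆]; group
  generalize ⁅b⁻¹, w⁆ = g at g2 e ⊢
  generalize (h.S b⁻¹ w (a * b) : H) = s at c e ⊢
  calc _ = (a ^ 2)⁻¹ * (a * b * (a * b * (b ^ 2)⁻¹ * s)) := by rw [commutatorElement_def, pow_two, pow_two]; group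
    _ = (a ^ 2)⁻¹ * (a * b * (s * (a * b) * g * g)) * (b ^ 2)⁻¹ := by
      rw [← (c _).eq, mul_assoc _ g g, g2]; group
    _ = _ := by rw [← e, pow_two (a * b * g)]; group

theorem rel2 (w w' b' : H) {a b : H} (ha : a = τ w * w⁻¹) (hb : b = τ w' * w'⁻¹) :
    h.S b' b w = h.S a b' b * h.S b' w' a := by
  obtain ⟨w'', e, he, rfl⟩ := h.pure b'
  simp only [h.S1 _ e, h.S2 _ _ e, h.E1 he, h.E2 he, mul_one]
  obtain ⟨b', hb'⟩ : ∃ b', b' = τ w'' * w''⁻¹ := ⟨_, rfl⟩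
  rw [← hb']
  have k1 := h.rel1 w w' ha hb
  have k2 := h.rel1 w w'' ha hb'
  have k3 := h.rel1 w (w' * w'') ha (pure_mul w' w'').symm
  rw [← hb, ← hb'] at k3
  have g := h.comm b'⁻¹ w'
  have e1 : ⁅a⁻¹, b * b' * ⁅b'⁻¹, w'⁆⁆ = ⁅a⁻¹, b⁆ * ⁅a⁻¹, b'⁆ * (h.S a b' b * h.S b' w' a : center H) := by
    rw [h.comm_mul, h.comm_mul, h.E2 g, h.I1, h.pr_symm a⁻¹ ⁅b'⁻¹, w'⁆, ← h.I1 b' w', ← h.I3 b'⁻¹ w']
    simp only [S, MulMemClass.mk_mul_mk, OneMemClass.coe_one, mul_one, mul_assoc]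
  rw [e1, ← mul_assoc a, h.S3 _ _ _ ⁅b'⁻¹, w'⁆, h.E3 g, mul_one, h.S1 _ ⁅b'⁻¹, w'⁆, h.E1 g, mul_one] at k3
  have k4 := mul_mem (inv_mem (mul_mem k1 k2)) k3
  have e2 : (⁅a⁻¹, b⁆ * h.S b w (a * b) * (⁅a⁻¹, b'⁆ * h.S b' w (a * b')))⁻¹ * (⁅a⁻¹, b⁆ * ⁅a⁻¹, b'⁆ *
      (h.S a b' b * h.S b' w' a : center H) * h.S (b * b') w (a * (b * b'))) =
      ((h.S b w (a * b) * h.S b' w (a * b'))⁻¹ * (h.S a b' b * h.S b' w' a * h.S (b * b') w (a * (b * b'))) :
        center H) := by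
    rw [mul_assoc ⁅a⁻¹, b⁆, ← mul_assoc (h.S b w (a * b) : H), (h.cm (h.S_mem b w (a * b)) ⁅a⁻¹, b'⁆).eq]
    push_cast
    group
  rw [e2] at k4
  have k5 : (h.S b w (a * b) * h.S b' w (a * b'))⁻¹ * (h.S a b' b * h.S b' w' a * h.S (b * b') w (a * (b * b'))) = 1 :=
    Subtype.ext (h.fix _ (mul_mem (inv_mem (mul_mem (h.S_mem _ _ _) (h.S_mem _ _ _)))
      (mul_mem (mul_mem (h.S_mem _ _ _) (h.S_mem _ _ _)) (h.S_mem _ _ _))) k4)
  rw [inv_mul_eq_one] at k5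
  simp only [h.S1, h.S3] at k5
  have j := h.jacobi b w b'
  rw [h.S_symm w b'] at j
  refine mul_left_cancel (a := h.S b w a * h.S b w b * (h.S b' w a * h.S b' w b') * (h.S b w b' * h.S b' w b)) ?_
  rw [mul_assoc, j, mul_one]
  exact k5.trans (by ac_rfl)

theorem rel3 (a b' b : H) : h.S a (τ b') (τ b) = h.S a b' b := by
  obtain ⟨w, e, he, rfl⟩ := h.pure a
  obtain ⟨w', e', he', rfl⟩ := h.pure b
  rw [map_mul, h.S1 _ e, h.S1 _ e, h.E1 he, h.E1 he, h.S3 _ _ _ e', h.S3 _ _ _ (τ e'), h.E3 he', h.E3 (h.tE he')]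
  have k1 := h.rel2 w w' b' rfl rfl
  have k2 := h.rel2 w (τ w') (τ b') rfl (b := τ (τ w' * w'⁻¹)) (by rw [map_mul, map_inv])
  rw [h.T12, h.T12, k1] at k2
  rw [mul_right_cancel k2]

theorem S_eq (a b' b : H) : h.S a b' b = 1 := by
  have k : ∀ a b', (h.S (τ a) b' b : H) = τ (h.S a b' b) := fun a b' => by rw [← h.rel3, h.T123]
  refine Subtype.ext (h.fix _ (h.S_mem _ _ _) (h.odd _ ?_))
  rw [h.S_symm, ← k, h.S_symm, ← k, h.T12, h.S_symm]

theorem main (a b : H) : Commute (a ^ 2) b := by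
  refine (commutatorElement_eq_one_iff_commute.1 ?_).symm
  rw [pow_two, h.comm_mul, h.exp (h.comm b a), h.S_eq, one_mul, OneMemClass.coe_one]

end St

/-- The central elements of order at most two of a subgroup. -/
def Om {G : Type*} [Group G] (W : Subgroup G) : Subgroup G where
  carrier := {n | n ∈ W ∧ (∀ w ∈ W, Commute n w) ∧ n * n = 1}
  one_mem' := ⟨one_mem _, fun w _ => Commute.one_left w, one_mul _⟩
  mul_mem' := fun {a b} ha hb => ⟨mul_mem ha.1 hb.1, fun w hw => (ha.2.1 w hw).mul_left (hb.2.1 w hw), by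
    rw [mul_assoc, ← mul_assoc b, ← (ha.2.1 b hb.1).eq, mul_assoc, hb.2.2, mul_one, ha.2.2]⟩
  inv_mem' := fun {a} ha => ⟨inv_mem ha.1, fun w hw => (ha.2.1 w hw).inv_left, by rw [← mul_inv_rev, ha.2.2, inv_one]⟩

theorem Om_normal {G : Type*} [Group G] (W : Subgroup G) [hW : W.Normal] : (Om W).Normal :=
  ⟨fun n hn g => ⟨hW.conj_mem n hn.1 g, fun w hw => by
    simpa [mul_assoc] using (hn.2.1 _ (hW.conj_mem' w hw g)).conj g, by rw [conj_mul, hn.2.2, mul_one, mul_inv_cancel]⟩⟩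

theorem Om_ne {G : Type*} [Group G] [Finite G] {W : Subgroup G} (hW : IsPGroup 2 W) (h0 : W ≠ ⊥) : Om W ≠ ⊥ := by
  have := (nontrivial_iff_ne_bot W).2 h0
  have := hW.center_nontrivial
  obtain ⟨n, hn, e⟩ := (IsPGroup.nontrivial_iff_card (hW.to_subgroup (center W))).1 this
  obtain ⟨z, hz⟩ := exists_prime_orderOf_dvd_card' (G := center W) 2 (e ▸ dvd_pow_self 2 hn.ne')
  intro k
  have h1 : ((z : W) : G) ∈ Om W := ⟨z.1.2, fun w hw => congrArg Subtype.val (mem_center_iff.1 z.2 ⟨w, hw⟩).symm, by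
    have := pow_orderOf_eq_one z
    rw [hz, pow_two] at this
    exact congrArg (fun t : center W => ((t : W) : G)) this⟩
  rw [k, mem_bot] at h1
  rw [show z = 1 from Subtype.ext (Subtype.ext h1), orderOf_one] at hz
  omega

end NilC

variable {G : Type*} [Group G] [Finite G] {p : ℕ} {C : Set G}

theorem Sys.nil (h : Sys p C) (hg : closure C = ⊤) (hz : center G = ⊥) (hW : IsPGroup 2 (Wg C))
    (ih : ∀ (N : Subgroup G) [N.Normal], N ≠ ⊥ → IsPGroup 2 N → Aff (QuotientGroup.mk' N '' C)) :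
    Aff C := by
  intro x hx y hy z hz'
  have top : ∀ g : G, g ∈ closure C := fun g => hg ▸ mem_top g
  by_cases h0 : Wg C = ⊥
  · have := mem_Wg hx hy
    rw [h0, mem_bot] at this
    rw [this, one_pow]
    exact Commute.one_left z
  have nW : (Wg C).Normal := ⟨fun w hw g => conj_Wg (h.le_norm (top g)) hw⟩
  have nN := NilC.Om_normal (Wg C)
  have pN : IsPGroup 2 (NilC.Om (Wg C)) := hW.to_le fun n hn => hn.1
  have ha := ih _ (NilC.Om_ne hW h0) pN
  have hs := h.quot _ pN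
  obtain ⟨φ, hφ⟩ : ∃ φ, φ = QuotientGroup.mk' (NilC.Om (Wg C)) := ⟨_, rfl⟩
  have ker : ∀ g, φ g = 1 ↔ g ∈ NilC.Om (Wg C) := fun g => by
    rw [hφ, QuotientGroup.mk'_apply, QuotientGroup.eq_one_iff]
  rw [← hφ] at ha hs
  have mW : ∀ w : Wg C, φ w ∈ Wg (φ '' C) := fun w => Wg_image φ C ▸ mem_map_of_mem φ w.2
  have cE : ∀ {e}, e ∈ Eg (φ '' C) → ∀ g, Commute e (φ g) := fun he g =>
    Eg_comm he (by rw [← MonoidHom.map_closure]; exact mem_map_of_mem φ (top g))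
  have all : ∀ n : G, (∀ w ∈ Wg C, Commute n w) → Commute n x → ∀ g, Commute n g := fun n h1 h2 g => by
    obtain ⟨w, hw, i, rfl⟩ := h.exists_mul_pow hx (top g)
    exact (h1 w hw).mul_right (h2.pow_right i)
  let τ : Wg C ≃* Wg C := MulAut.conjNormal x⁻¹
  have hτ : ∀ w : Wg C, (τ w : G) = x⁻¹ * w * x := fun w => by simp [τ]
  have fx : ∀ w : Wg C, τ w = w ↔ Commute (w : G) x := fun w => by
    rw [Subtype.ext_iff, hτ, mul_assoc, inv_mul_eq_iff_eq_mul]; rfl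
  have st : NilC.St τ ((NilC.Om (Wg C)).subgroupOf (Wg C)) ((Eg (φ '' C)).comap (φ.comp (Wg C).subtype)) := by
    refine ⟨fun n hn => mem_center_iff.2 fun w => Subtype.ext (hn.2.1 w w.2).symm, fun n hn => Subtype.ext hn.2.2,
      fun n hn => ?_, fun n hn e => Subtype.ext ?_, fun n hn => ?_, fun u v => ?_, fun e he w => (ker _).1 ?_,
      fun e he => (ker _).1 ?_, fun e he => (ker _).1 ?_, fun w => ?_, fun w => (fx _).2 ?_, fun g e => (fx _).2 ?_⟩
    · rw [mem_subgroupOf, hτ]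
      exact nN.conj_mem' _ hn x
    · have : (n : G) ∈ center G := mem_center_iff.2 fun g => (all n hn.2.1 ((fx n).1 e) g).symm
      rwa [hz, mem_bot] at this
    · change φ n ∈ Eg (φ '' C)
      rw [(ker n).2 hn]
      exact one_mem _
    · rw [mem_comap, map_commutatorElement]
      exact hs.comm_mem ha (mW u) (mW v)
    · change (φ.comp (Wg C).subtype) ⁅e, w⁆ = 1
      rw [map_commutatorElement]
      exact commutatorElement_eq_one_iff_commute.2 (cE he w)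
    · change φ (τ e * (e : G)⁻¹) = 1
      rw [hτ, map_mul, map_mul, map_mul, mul_assoc _ _ (φ x), show φ e * φ x = φ x * φ e from (cE he x).eq, map_inv, map_inv,
        inv_mul_cancel_left, mul_inv_cancel]
    · change φ (e * e) = 1
      rw [map_mul]
      exact hs.E_sq ha he
    · obtain ⟨y', hy', e, he, k⟩ := hs.exists_pure ha (Set.mem_image_of_mem φ hx) (mW w)
      obtain ⟨u, hu, k'⟩ := hs.exists_conj ha (Set.mem_image_of_mem φ hx) hy'
      rw [Wg_image] at hu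
      obtain ⟨u, hu, rfl⟩ := hu
      refine ⟨⟨u, hu⟩, (τ ⟨u, hu⟩ * ⟨u, hu⟩⁻¹)⁻¹ * w, ?_, (mul_inv_cancel_left _ _).symm⟩
      change φ ((τ ⟨u, hu⟩ * u⁻¹)⁻¹ * w) ∈ Eg (φ '' C)
      rw [hτ]
      simp only [map_mul, map_inv]
      rw [k, ← k']
      convert he using 1
      group
    · have := h.sq x hx _ (h.conj_mem (top w) hx)
      change Commute ((τ w * (w : G)⁻¹) ^ 2) x
      rw [hτ]
      simpa only [mul_assoc] using this
    · refine h.commute_of_sq hx ?_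
      have := congrArg Subtype.val e
      rw [hτ, hτ] at this
      change g * x ^ 2 = x ^ 2 * g
      rw [pow_two]
      nth_rw 2 [← this]
      group
  exact all _ (fun w hw => congrArg Subtype.val (st.main ⟨_, mem_Wg hx hy⟩ ⟨w, hw⟩).eq) (h.sq x hx y hy) z

end Cfsg.Agent.SY
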