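import Mathlib
import Cfsg.Agent.SY.M
import Cfsg.Agent.SY.Base
import Cfsg.Agent.SY.Mp
import Cfsg.Agent.SY.Nil

/-! SY: every system is affine. -/

set_option autoImplicit false

namespace Cfsg.Agent.SY

open Subgroup
open scoped commutatorElement

universe u

theorem Main.aux {p : ℕ} (n : ℕ) : ∀ (G : Type u) [Group G] [Finite G] (C : Set G), Nat.card G = n → Sys p C → Aff C := by
  induction n using Nat.strong_induction_on with
  | _ n ih =>
  intro G _ _ C hn h
  have sub : ∀ K : Subgroup G, K ≠ ⊤ → Aff (C ∩ K) := fun K hK => Aff.of_comap (ih _ (by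
    rw [← hn, ← K.card_mul_index]
    exact lt_mul_of_one_lt_right Nat.card_pos (one_lt_index_of_ne_top hK)) K _ rfl (h.comap K))
  have quo : ∀ (N : Subgroup G) [N.Normal], N ≠ ⊥ → Sys p (QuotientGroup.mk' N '' C) →
      Aff (QuotientGroup.mk' N '' C) := fun N _ hN hs => ih _ (by
    rw [← hn, card_eq_card_quotient_mul_card_subgroup N]
    exact lt_mul_of_one_lt_right Nat.card_pos ((one_lt_card_iff_ne_bot N).2 hN)) _ _ rfl hs
  by_cases hg : closure C = ⊤
  swap
  · have := sub _ hg
    rwa [Set.inter_eq_left.2 Subgroup.subset_closure] at this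
  by_cases hz : center G = ⊥
  swap
  · exact h.aff_of_center hg (quo _ hz)
  by_cases ho : ∀ N : Subgroup G, N.Normal → IsPGroup 2 N → N = ⊥
  swap
  · push Not at ho
    obtain ⟨N, hN, h2, h1⟩ := ho
    exact h.nil hg hz (h.isPGroup_of_quot N h2 (quo N h1 (h.quot N h2))) fun N _ h1 h2 => quo N h1 (h.quot N h2)
  by_contra ha
  have m : Min p C := ⟨h, hg, hz, sub, ho, ha⟩
  by_cases hf : ∀ x ∈ C, ∀ y ∈ C, x ≠ y → ¬ Flat C x y
  · exact m.nice_false hf
  push Not at hf
  obtain ⟨x, hx, y, hy, hxy, hf⟩ := hf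
  exact m.mp_false (fun x hx y hy z hz hxy hf hg => m.base_false hx hy hz hxy hf hg) hx hy hxy hf

variable {G : Type*} [Group G] [Finite G] {p : ℕ} {C : Set G}

/-- every system is affine -/
theorem Sys.aff (h : Sys p C) : Aff C := Main.aux _ G C rfl h

theorem Sys.isPGroup_Wg (h : Sys p C) : IsPGroup 2 (Wg C) := h.isPGroup h.aff

end Cfsg.Agent.SY
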